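import Cfsg.Agent.Lib.Order5616.Centralizer
import Cfsg.Agent.Lib.Mathieu.Groups
import Cfsg.Agent.Lib.Transfer.Residual
import Cfsg.Agent.Lib.PSL2.PGLHom
import Cfsg.Agent.S2916

/-!
# The simple group of order 5616 is `L₃(3)`
-/

set_option autoImplicit false
set_option linter.style.haveILetI false
set_option linter.unusedSectionVars false

namespace Cfsg.Agent.Order5616

open Subgroup

universe u v

theorem pResidual_eq_top {G : Type u} [Group G] [Finite G] [IsSimpleGroup G] (hn : Nat.card G = 5616) :
    Cfsg.pResidual 2 G = ⊤ := by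
  haveI : Fact (Nat.Prime 13) := ⟨by norm_num⟩
  haveI : (Cfsg.pResidual 2 G).Normal := ⟨fun x hx g => by
    induction hx using Subgroup.closure_induction with
    | mem y hy => exact Subgroup.subset_closure (show Nat.Coprime _ 2 by
        rw [show g * y * g⁻¹ = MulAut.conj g y from rfl, MulEquiv.orderOf_eq]; exact hy)
    | one => simp
    | mul a b _ _ ha hb => simpa [mul_assoc] using mul_mem ha hb
    | inv a _ ha => simpa [mul_assoc] using inv_mem ha⟩
  refine (IsSimpleGroup.eq_bot_or_eq_top_of_normal _ inferInstance).resolve_left fun h => ?_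
  obtain ⟨y, hy⟩ := exists_prime_orderOf_dvd_card' (G := G) 13 (by rw [hn]; norm_num)
  have : y ∈ Cfsg.pResidual 2 G := Subgroup.subset_closure (show Nat.Coprime (orderOf y) 2 by rw [hy]; decide)
  rw [h, mem_bot] at this
  rw [this, orderOf_one] at hy
  omega

theorem equiv_psl {G : Type u} [Group G] [Finite G] [IsSimpleGroup G] (hn : Nat.card G = 5616) :
    ∃ (F : Type) (_ : Field F) (_ : Fintype F), Fintype.card F = 3 ∧
      Nonempty (G ≃* Matrix.ProjectiveSpecialLinearGroup (Fin 3) F) := by
  haveI : Fact (Nat.Prime 2) := ⟨Nat.prime_two⟩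
  obtain ⟨t, ht⟩ := exists_prime_orderOf_dvd_card' (G := G) 2 (by rw [hn]; norm_num)
  rcases Cfsg.Agent.S2916.result (pResidual_eq_top hn) t ht (centralizer_equiv_gl hn ht) with h | ⟨⟨e⟩⟩
  · exact h
  · exfalso
    have h := Nat.card_congr e.toEquiv
    rw [hn, Mathieu.card_M11] at h
    omega

/-- A field isomorphism induces an isomorphism of `PSL(3, -)`. -/
noncomputable def pslThreeCongr {K F : Type} [Field K] [Field F] (e : K ≃+* F) :
    Matrix.ProjectiveSpecialLinearGroup (Fin 3) K ≃* Matrix.ProjectiveSpecialLinearGroup (Fin 3) F :=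
  QuotientGroup.congr _ _
    { Matrix.SpecialLinearGroup.map (e : K →+* F) with
      invFun := Matrix.SpecialLinearGroup.map (e.symm : F →+* K)
      left_inv := fun g => by
        apply Matrix.SpecialLinearGroup.ext
        intro i j
        exact e.symm_apply_apply _
      right_inv := fun g => by
        apply Matrix.SpecialLinearGroup.ext
        intro i j
        exact e.apply_symm_apply _ }
    (PSL2.map_center_equiv _)

/-- Two simple groups of order 5616 are isomorphic. -/
theorem unique {G : Type u} [Group G] [Finite G] [IsSimpleGroup G] (hG : Nat.card G = 5616)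
    {H : Type v} [Group H] [Finite H] [IsSimpleGroup H] (hH : Nat.card H = 5616) : Nonempty (G ≃* H) := by
  obtain ⟨F, _, _, hF, ⟨e⟩⟩ := equiv_psl hG
  obtain ⟨F', _, _, hF', ⟨e'⟩⟩ := equiv_psl hH
  exact ⟨e.trans ((pslThreeCongr (FiniteField.ringEquivOfCardEq (hF.trans hF'.symm))).trans e'.symm)⟩

end Cfsg.Agent.Order5616
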