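import Cfsg.Agent.Lib.Order5616.Shape
import Cfsg.Agent.Lib.SolvableTwo.Basic
import Cfsg.Agent.Lib.CharInt.Burnside
import Cfsg.Agent.S3304
import Cfsg.Agent.S0218

/-!
# A simple group of order 5616: involution centralisers are `GL(2, 3)`
-/

set_option autoImplicit false
set_option linter.style.haveILetI false
set_option linter.unusedSectionVars false

namespace Cfsg.Agent.Order5616

open Subgroup MulAction SmallSimple

universe u

variable {G : Type u} [Group G] [Finite G] [IsSimpleGroup G]

/-- An element of order 3 of an involution centraliser commuting with elements filling eight of its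
2-elements generates a normal subgroup. -/
theorem normal_three {W : Type*} [Group W] [Finite W] (hW : Nat.card W = 48) {r : W} (hr : orderOf r = 3)
    {K : Subgroup W} (hK : 8 ∣ Nat.card K) (hKr : K ≤ centralizer ({r} : Set W)) :
    (zpowers r).Normal := by
  haveI : Fact (Nat.Prime 3) := ⟨Nat.prime_three⟩
  obtain ⟨S, hS⟩ := (IsPGroup.of_card (n := 1) (p := 3) (G := zpowers r)
    (by rw [Nat.card_zpowers, hr, pow_one])).exists_le_sylow
  have hScard : Nat.card (S : Subgroup W) = 3 := by
    have h := card_sylow_subgroup (p := 3) (k := 1) (m := 16) (by rw [hW]; norm_num) (by norm_num) S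
    norm_num at h
    exact h
  have heq : zpowers r = S := eq_of_le_of_card_ge hS (by rw [Nat.card_zpowers, hr, hScard])
  have hC24 : 24 ∣ Nat.card (centralizer ({r} : Set W)) := by
    refine Nat.Coprime.mul_dvd_of_dvd_of_dvd (m := 8) (n := 3) (by norm_num) (hK.trans (card_dvd_of_le hKr)) ?_
    have h := card_dvd_of_le (zpowers_le.2
      (mem_centralizer_singleton_iff.2 rfl : r ∈ centralizer ({r} : Set W)))
    rwa [Nat.card_zpowers, hr] at h
  have hCN : centralizer ({r} : Set W) ≤ normalizer ((S : Subgroup W) : Set W) := by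
    intro g hg
    rw [← heq, mem_normalizer_iff]
    intro h
    constructor
    · rintro ⟨k, rfl⟩
      refine ⟨k, ?_⟩
      have hc : Commute g (r ^ k) := Commute.zpow_right (mem_centralizer_singleton_iff.1 hg) k
      simp only
      rw [hc.eq, mul_inv_cancel_right]
    · rintro ⟨k, hk⟩
      refine ⟨k, ?_⟩
      have hc : Commute g (r ^ k) := Commute.zpow_right (mem_centralizer_singleton_iff.1 hg) k
      simp only at hk ⊢
      have : h = g⁻¹ * r ^ k * g := by rw [hk]; group
      rw [this, mul_assoc, ← hc.eq, inv_mul_cancel_left]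
  have h24 := hC24.trans (card_dvd_of_le hCN)
  have hmul := card_mul_index (normalizer ((S : Subgroup W) : Set W))
  rw [hW] at hmul
  have hmod := card_sylow_modEq_one 3 W
  rw [S.card_eq_index_normalizer] at hmod
  obtain ⟨c, hc⟩ := h24
  rw [hc] at hmul
  have hi : (normalizer ((S : Subgroup W) : Set W)).index = 1 := by
    generalize (normalizer ((S : Subgroup W) : Set W)).index = i at hmod hmul ⊢
    unfold Nat.ModEq at hmod
    rcases c with _ | _ | c
    · omega
    · omega
    · have h2 : c + 2 ≤ 2 := Nat.le_of_dvd (by norm_num) ⟨i, by nlinarith⟩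
      have : c = 0 := by omega
      subst this
      omega
  rw [heq]
  exact normalizer_eq_top_iff.1 (index_eq_one.1 hi)

/-- No involution centraliser has index three in a subgroup. -/
theorem false_of_index_three (hn : Nat.card G = 5616) {t : G} (ht : orderOf t = 2) {M : Subgroup G}
    (hM : Nat.card M = 144) (hWM : centralizer ({t} : Set G) ≤ M) : False := by
  classical
  haveI : Fact (Nat.Prime 2) := ⟨Nat.prime_two⟩
  set W := centralizer ({t} : Set G) with hWdef
  have hW : Nat.card W = 48 := card_centralizer hn ht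
  set W' := W.subgroupOf M with hW'def
  have hW' : Nat.card W' = 48 := by rw [Nat.card_congr (subgroupOfEquivOfLe hWM).toEquiv, hW]
  have hidx : W'.index = 3 := by
    have h := card_mul_index W'
    rw [hW', hM] at h
    omega
  set L := W'.normalCore with hLdef
  have hL6 : L.index ∣ 6 := by
    have h : L = (MulAction.toPermHom M (M ⧸ W')).ker := normalCore_eq_ker W'
    rw [h, index_ker]
    refine (card_subgroup_dvd_card _).trans ?_
    rw [Nat.card_perm, ← index_eq_card, hidx]
    exact dvd_rfl
  obtain ⟨S⟩ := (inferInstance : Nonempty (Sylow 2 L))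
  have hL : Nat.card L = 24 ∨ Nat.card L = 48 := by
    have h := card_mul_index L
    have hle : Nat.card L ≤ 48 := hW' ▸ card_le_of_le (normalCore_le W')
    rw [hM] at h
    have hd := Nat.le_of_dvd (by norm_num) hL6
    generalize L.index = i at h hd hL6
    interval_cases i <;> omega
  set K : Subgroup G := ((S : Subgroup L).map L.subtype).map M.subtype with hKdef
  have hKcard : Nat.card K = 8 ∨ Nat.card K = 16 := by
    rw [hKdef, card_map_of_injective Subtype.coe_injective, card_map_of_injective Subtype.coe_injective]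
    rcases hL with h | h
    · left
      have := card_sylow_subgroup (p := 2) (k := 3) (m := 3) (by rw [h]; norm_num) (by norm_num) S
      norm_num at this
      exact this
    · right
      have := card_sylow_subgroup (p := 2) (k := 4) (m := 3) (by rw [h]; norm_num) (by norm_num) S
      norm_num at this
      exact this
  have hKW : K ≤ W := by
    rintro _ ⟨y, ⟨z, -, rfl⟩, rfl⟩
    exact normalCore_le W' z.2
  obtain ⟨T, hKT, hTW⟩ := exists_sylow_le hn ht ((S.isPGroup'.map L.subtype).map M.subtype) hKW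
  have htT : t ∈ (T : Subgroup G) := by
    obtain ⟨T', hT', hT'W⟩ := exists_sylow_le hn ht (H := (T : Subgroup G) ⊔ zpowers t)
      (by
        have h2 : IsPGroup 2 (zpowers t) := IsPGroup.of_card (n := 1) (by rw [Nat.card_zpowers, ht, pow_one])
        refine IsPGroup.to_sup_of_normal_right' T.isPGroup' h2 ?_
        intro g hg
        rw [mem_normalizer_iff]
        have hgt : g * t = t * g := mem_centralizer_singleton_iff.1 (hTW hg)
        intro h
        constructor
        · rintro ⟨k, rfl⟩
          refine ⟨k, ?_⟩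
          simp only
          rw [(Commute.zpow_right hgt k).eq, mul_inv_cancel_right]
        · rintro ⟨k, hk⟩
          refine ⟨k, ?_⟩
          simp only at hk ⊢
          have : h = g⁻¹ * t ^ k * g := by rw [hk]; group
          rw [this, mul_assoc, ← (Commute.zpow_right hgt k).eq, inv_mul_cancel_left])
      (sup_le hTW (zpowers_le.2 (mem_centralizer_singleton_iff.2 rfl)))
    have heq : (T : Subgroup G) = T' := eq_of_le_of_card_ge (le_sup_left.trans hT')
      (by rw [card_sylow_two hn T, card_sylow_two hn T'])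
    rw [heq]
    exact hT' (mem_sup_right (mem_zpowers t))
  obtain ⟨a, haT, ha, -, hsq, -⟩ := shape hn T ht htT hTW
  have haK : a ^ 2 ∈ K := by
    have h2 : (K.subgroupOf (T : Subgroup G)).index = 1 ∨ (K.subgroupOf (T : Subgroup G)).index = 2 := by
      have h := card_mul_index (K.subgroupOf (T : Subgroup G))
      rw [Nat.card_congr (subgroupOfEquivOfLe hKT).toEquiv, card_sylow_two hn T] at h
      rcases hKcard with hk | hk <;> rw [hk] at h <;> omega
    rcases h2 with h | h
    · exact (index_eq_one.1 h).ge (mem_top (⟨a, haT⟩ ^ 2 : (T : Subgroup G)))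
    · haveI := normal_of_index_eq_two h
      exact (h ▸ pow_index_mem (K.subgroupOf (T : Subgroup G)) ⟨a, haT⟩ :)
  have hb : orderOf (a ^ 2) = 4 := by rw [orderOf_pow, ha]; norm_num
  have hN : normalizer (((S : Subgroup L).map L.subtype : Subgroup M) : Set M) ≤ W' := by
    intro g hg
    obtain ⟨z, hz, hzb⟩ := haK
    have hgz := (mem_normalizer_iff.1 hg z).1 hz
    have hmemK : (g : G) * a ^ 2 * (g : G)⁻¹ ∈ K := ⟨g * z * g⁻¹, hgz, by rw [← hzb]; rfl⟩
    have h4 : orderOf ((g : G) * a ^ 2 * (g : G)⁻¹) = 4 :=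
      (MulEquiv.orderOf_eq (MulAut.conj (g : G)) (a ^ 2)).trans hb
    have h1 := hsq _ (hKT hmemK) h4
    have h2 := hsq _ (pow_mem haT 2) hb
    rw [conj_pow, h2] at h1
    rw [hW'def, mem_subgroupOf, hWdef, mem_centralizer_singleton_iff]
    calc (g : G) * t = ((g : G) * t * (g : G)⁻¹) * g := by group
      _ = t * g := by rw [h1]
  have htop := Sylow.normalizer_sup_eq_top S
  have : W' = ⊤ := top_le_iff.1 (htop ▸ sup_le hN (normalCore_le W'))
  rw [this, card_top, hM] at hW'
  omega

theorem oddCore_centralizer_eq_bot (hn : Nat.card G = 5616) {t : G} (ht : orderOf t = 2) :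
    Cfsg.oddCore ↥(centralizer ({t} : Set G)) = ⊥ := by
  classical
  set W := centralizer ({t} : Set G) with hWdef
  have hW : Nat.card W = 48 := card_centralizer hn ht
  by_contra hne
  have hO3 : Nat.card (Cfsg.oddCore W) = 3 := by
    have hd := card_subgroup_dvd_card (Cfsg.oddCore W)
    rw [hW] at hd
    have ho := SolvableTwo.odd_card_oddCore (G := W)
    rw [Nat.odd_iff] at ho
    have h1 : Nat.card (Cfsg.oddCore W) ≠ 1 := fun h => hne (card_eq_one.1 h)
    have hle := Nat.le_of_dvd (by norm_num) hd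
    generalize Nat.card (Cfsg.oddCore W) = o at *
    interval_cases o <;> omega
  set R : Subgroup G := (Cfsg.oddCore W).map W.subtype with hRdef
  have hR : Nat.card R = 3 := by rw [hRdef, card_map_of_injective Subtype.coe_injective, hO3]
  have hRW : R ≤ W := map_subtype_le _
  have hWR : W ≤ normalizer (R : Set G) := by
    intro g hg
    rw [mem_normalizer_iff]
    have hn' := SolvableTwo.oddCore_normal (G := W)
    have key : ∀ g ∈ W, ∀ x ∈ R, g * x * g⁻¹ ∈ R := by
      rintro g hg _ ⟨y, hy, rfl⟩
      exact ⟨⟨g, hg⟩ * y * ⟨g, hg⟩⁻¹, hn'.conj_mem y hy _, rfl⟩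
    exact fun x => ⟨key g hg x, fun h => by simpa [mul_assoc] using key g⁻¹ (inv_mem hg) _ h⟩
  set M := normalizer (R : Set G)
  have hMtop : M ≠ ⊤ := fun h => by
    haveI : R.Normal := normalizer_eq_top_iff.1 h
    rcases (inferInstance : R.Normal).eq_bot_or_eq_top with h' | h'
    · rw [h', card_bot] at hR; omega
    · rw [h', card_top, hn] at hR; omega
  have h48 : 48 ∣ Nat.card M := hW ▸ card_dvd_of_le hWR
  haveI : Fact (Nat.Prime 3) := ⟨Nat.prime_three⟩
  have h9 : 9 ∣ Nat.card M := by
    obtain ⟨K, hK, hRK⟩ := Sylow.exists_subgroup_card_pow_succ (p := 3) (n := 1) (G := G)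
      (by rw [hn]; norm_num) (H := R) (by rw [hR, pow_one])
    haveI : IsMulCommutative K := IsPGroup.isMulCommutative_of_card_eq_prime_sq hK
    have hKM : K ≤ M := fun g hg => Subgroup.centralizer_le_normalizer _ (mem_centralizer_iff.2 fun x hx =>
      congrArg Subtype.val (mul_comm' (⟨x, hRK hx⟩ : K) ⟨g, hg⟩))
    exact (hK ▸ card_dvd_of_le hKM :)
  have h13 : ¬ 13 ∣ Nat.card M := by
    intro h
    haveI : Fact (Nat.Prime 13) := ⟨by norm_num⟩
    obtain ⟨⟨y, hyM⟩, hy⟩ := exists_prime_orderOf_dvd_card' (G := M) 13 h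
    rw [← Subgroup.orderOf_coe] at hy
    obtain ⟨⟨r, hrR⟩, hr⟩ := exists_prime_orderOf_dvd_card' (G := R) 3 (by rw [hR])
    rw [← Subgroup.orderOf_coe] at hr
    change orderOf r = 3 at hr
    change orderOf y = 13 at hy
    have hRz : zpowers r = R := eq_of_le_of_card_ge (zpowers_le.2 hrR) (by rw [Nat.card_zpowers, hr, hR])
    obtain ⟨k, hk⟩ := (isOfFinOrder_of_finite r).mem_powers_iff_mem_zpowers.2
      (hRz.ge ((mem_normalizer_iff.1 hyM r).1 hrR))
    simp only at hk
    rw [← pow_mod_orderOf, hr] at hk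
    have hiter : ∀ j : ℕ, y ^ j * r * (y ^ j)⁻¹ = r ^ (k % 3) ^ j := by
      intro j
      induction j with
      | zero => simp
      | succ j ih =>
        calc y ^ (j + 1) * r * (y ^ (j + 1))⁻¹ = y * (y ^ j * r * (y ^ j)⁻¹) * y⁻¹ := by
              rw [pow_succ']; group
          _ = y * r ^ (k % 3) ^ j * y⁻¹ := by rw [ih]
          _ = (y * r * y⁻¹) ^ (k % 3) ^ j := conj_pow.symm
          _ = r ^ (k % 3) ^ (j + 1) := by rw [← hk, ← pow_mul, pow_succ']
    have h13' := hiter 13
    rw [← hy, pow_orderOf_eq_one, hy, one_mul, inv_one, mul_one] at h13'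
    have hfix : r ^ (k % 3) = r := by
      conv_rhs => rw [h13']
      rw [← pow_mod_orderOf r ((k % 3) ^ 13), hr]
      have hlt : k % 3 < 3 := Nat.mod_lt _ (by norm_num)
      generalize k % 3 = i at hlt h13' ⊢
      interval_cases i <;> norm_num
    have hcomm : y * r = r * y := by
      calc y * r = (y * r * y⁻¹) * y := by group
        _ = r * y := by rw [← hk, hfix]
    have hc := Cfsg.Agent.S1001.result 13 3 4 (by norm_num) (by rw [hn]; norm_num) y hy
    have hrC : r ∈ centralizer ({y} : Set G) := mem_centralizer_singleton_iff.2 hcomm.symm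
    rw [hc] at hrC
    have h2 := Subgroup.orderOf_dvd_natCard _ hrC
    rw [Nat.card_zpowers, hy, hr] at h2
    norm_num at h2
  have hd : Nat.card M ∣ 432 := ((Nat.Prime.coprime_iff_not_dvd (by norm_num : Nat.Prime 13)).2 h13).symm.dvd_of_dvd_mul_left
    (show Nat.card M ∣ 13 * 432 by rw [show 13 * 432 = 5616 from rfl, ← hn]; exact card_subgroup_dvd_card M)
  have h144 : 144 ∣ Nat.card M := by
    have := Nat.lcm_dvd h48 h9
    norm_num [Nat.lcm] at this
    exact this
  have hcases : Nat.card M = 144 ∨ Nat.card M = 432 := by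
    obtain ⟨c, hc⟩ := h144
    have := Nat.le_of_dvd (by norm_num) hd
    rw [hc] at hd this ⊢
    have : c ≤ 3 := by omega
    interval_cases c <;> first | omega | norm_num at hd ⊢
  rcases hcases with h | h
  · exact false_of_index_three hn ht h hWR
  · obtain ⟨T, htT, hTW⟩ := exists_sylow_le hn ht (H := zpowers t)
      (IsPGroup.of_card (n := 1) (by rw [Nat.card_zpowers, ht, pow_one]))
      (zpowers_le.2 (mem_centralizer_singleton_iff.2 rfl))
    exact false_of_thirteen hn h T (hTW.trans hWR) (hTW.trans hWR) ht (htT (mem_zpowers t))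
      (mem_centralizer_iff.2 fun x hx => mem_centralizer_singleton_iff.1 (hRW hx))
      le_rfl le_normalizer le_rfl (by rw [hR]; norm_num) hR

theorem centralizer_equiv_gl (hn : Nat.card G = 5616) {t : G} (ht : orderOf t = 2) :
    Nonempty (↥(centralizer ({t} : Set G)) ≃* GL (Fin 2) (ZMod 3)) := by
  classical
  haveI : Fact (Nat.Prime 2) := ⟨Nat.prime_two⟩
  haveI : Fact (Nat.Prime 3) := ⟨Nat.prime_three⟩
  set W := centralizer ({t} : Set G) with hWdef
  have hW : Nat.card W = 48 := card_centralizer hn ht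
  have hO := oddCore_centralizer_eq_bot hn ht
  have hnotn : ∀ r : W, orderOf r = 3 → ¬ (zpowers r).Normal := fun r hr h => by
    have := SolvableTwo.le_oddCore h (by rw [Nat.card_zpowers, hr]; decide)
    rw [hO, le_bot_iff, zpowers_eq_bot] at this
    rw [this, orderOf_one] at hr
    omega
  obtain ⟨r, hr⟩ := exists_prime_orderOf_dvd_card' (G := W) 3 (by rw [hW]; norm_num)
  have hr3 : ((r : G)) ^ 3 = 1 := by rw [← hr, ← SubmonoidClass.coe_pow, pow_orderOf_eq_one]; rfl
  have htc : ∀ x ∈ W, x * t * x⁻¹ = t := fun x hx => by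
    rw [mem_centralizer_singleton_iff.1 hx, mul_inv_cancel_right]
  -- every Sylow subgroup of `W` gives one of `G`
  have hsyl : ∀ S : Sylow 2 W, ∃ T : Sylow 2 G, (S : Subgroup W).map W.subtype = T ∧
      t ∈ (T : Subgroup G) := by
    intro S
    obtain ⟨T, hle, -⟩ := exists_sylow_le hn ht (S.isPGroup'.map W.subtype) (map_subtype_le _)
    have hcard : Nat.card ((S : Subgroup W).map W.subtype) = 16 := by
      rw [card_map_of_injective Subtype.coe_injective]
      have := card_sylow_subgroup (p := 2) (k := 4) (m := 3) (by rw [hW]; norm_num) (by norm_num) S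
      norm_num at this
      exact this
    have heq := eq_of_le_of_card_ge hle (by rw [hcard, card_sylow_two hn T])
    refine ⟨T, heq, ?_⟩
    let tc : W := ⟨t, mem_centralizer_singleton_iff.2 rfl⟩
    haveI : (zpowers tc).Normal := ⟨fun x hx g => by
      obtain ⟨k, rfl⟩ := mem_zpowers_iff.1 hx
      rw [← conj_zpow, show g * tc * g⁻¹ = tc from Subtype.ext (htc g g.2)]
      exact zpow_mem (mem_zpowers tc) k⟩
    have hsub : zpowers tc ≤ (S : Subgroup W) := (IsPGroup.of_card (n := 1) (p := 2) (G := zpowers tc) (by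
      rw [Nat.card_zpowers, ← Subgroup.orderOf_coe, pow_one]; exact ht)).le_sylow_of_normal S
    rw [← heq]
    exact ⟨tc, hsub (mem_zpowers tc), rfl⟩
  have hS2 : ∀ (S : Sylow 2 W), ((S : Subgroup W)).Normal → False := by
    intro S hSn
    obtain ⟨T, hT, htT⟩ := hsyl S
    obtain ⟨a, haT, ha, h8, -, -⟩ := shape hn T ht htT (hT ▸ map_subtype_le _)
    obtain ⟨a₀, ha₀, rfl⟩ : a ∈ (S : Subgroup W).map W.subtype := hT ▸ haT
    change orderOf (a₀ : G) = 8 at ha
    have hmem : ((r : G) * a₀ * (r : G)⁻¹) ∈ (T : Subgroup G) :=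
      hT ▸ ⟨r * a₀ * r⁻¹, hSn.conj_mem a₀ ha₀ r, rfl⟩
    obtain ⟨k, hk⟩ := (isOfFinOrder_of_finite (a₀ : G)).mem_powers_iff_mem_zpowers.2
      (h8 _ hmem ((MulEquiv.orderOf_eq (MulAut.conj (r : G)) (a₀ : G)).trans ha))
    simp only at hk
    rw [← pow_mod_orderOf, ha] at hk
    have hk' : orderOf ((a₀ : G) ^ (k % 8)) = 8 := by
      rw [hk]; exact (MulEquiv.orderOf_eq (MulAut.conj (r : G)) (a₀ : G)).trans ha
    have h3 : (a₀ : G) ^ ((k % 8) * ((k % 8) * (k % 8))) = a₀ := by
      rw [pow_mul, hk, conj_pow, pow_mul, hk, conj_pow, hk]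
      calc (r : G) * ((r : G) * ((r : G) * a₀ * (r : G)⁻¹) * (r : G)⁻¹) * (r : G)⁻¹
          = ((r : G) ^ 3) * a₀ * ((r : G) ^ 3)⁻¹ := by simp only [pow_succ, pow_zero, one_mul]; group
        _ = a₀ := by rw [hr3]; group
    have hone : k % 8 = 1 := by
      rw [← pow_mod_orderOf, ha] at h3
      rw [orderOf_pow, ha] at hk'
      have hlt : k % 8 < 8 := Nat.mod_lt _ (by norm_num)
      have hne : ∀ i, i < 8 → i ≠ 1 → (a₀ : G) ^ i ≠ a₀ := fun i hi hi1 h => hi1 (by
        have := (pow_eq_pow_iff_modEq (x := (a₀ : G)) (n := i) (m := 1)).1 (by rw [h, pow_one])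
        rw [ha, Nat.ModEq, Nat.mod_eq_of_lt hi] at this
        exact this)
      generalize k % 8 = i at hlt hk' h3 ⊢
      by_contra hi
      interval_cases i <;> first
        | exact hi rfl
        | exact absurd hk' (by decide)
        | exact hne _ (by norm_num) (by norm_num) h3
    rw [hone, pow_one] at hk
    refine hnotn r hr (normal_three hW hr (K := zpowers a₀)
      (by rw [Nat.card_zpowers, ← Subgroup.orderOf_coe]; exact ha.symm.dvd) (zpowers_le.2 ?_))
    refine mem_centralizer_singleton_iff.2 (Subtype.ext ?_)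
    show (a₀ : G) * r = r * a₀
    conv_lhs => rw [hk]
    group
  have hsol : Group.IsSolvable W := (CharInt.isSolvable_of_card_eq Nat.prime_two Nat.prime_three
    (a := 4) (b := 1) (by rw [hW]; norm_num) :)
  have hI : ∀ S S' : Sylow 2 W, S ≠ S' → Cfsg.PRankLE 2 1 ↥((S : Subgroup W) ⊓ (S' : Subgroup W)) := by
    intro S S' hne A _ hA
    by_contra hlt
    obtain ⟨T, hT, htT⟩ := hsyl S
    obtain ⟨T', hT', htT'⟩ := hsyl S'
    have hTW : (T : Subgroup G) ≤ W := hT ▸ map_subtype_le _
    have hT'W : (T' : Subgroup G) ≤ W := hT' ▸ map_subtype_le _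
    -- an involution `v ≠ t` in both
    obtain ⟨v, hvT, hvT', hv, hvt⟩ : ∃ v : G, v ∈ (T : Subgroup G) ∧ v ∈ (T' : Subgroup G) ∧
        orderOf v = 2 ∧ v ≠ t := by
      by_contra hc
      push Not at hc
      apply hlt
      have hall : ∀ x : A, x = 1 ∨ ((((x : ↥((S : Subgroup W) ⊓ (S' : Subgroup W))) : W)) : G) = t := fun x =>
        or_iff_not_imp_left.2 fun hx => hc _ (hT ▸ ⟨_, (Subgroup.mem_inf.1 x.1.2).1, rfl⟩)
          (hT' ▸ ⟨_, (Subgroup.mem_inf.1 x.1.2).2, rfl⟩)
          (orderOf_eq_prime (by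
              have := congrArg (fun y : ↥((S : Subgroup W) ⊓ (S' : Subgroup W)) => ((y : W) : G)) (hA x.1 x.2)
              exact this)
            fun h => hx (Subtype.ext (Subtype.ext (Subtype.ext h))))
      refine (Nat.card_le_card_of_injective (β := Bool) (fun x => decide (x = 1)) fun x y h => ?_).trans
        (by simp)
      rcases hall x with hx | hx <;> rcases hall y with hy | hy
      · rw [hx, hy]
      · subst hx
        simpa [eq_comm] using h
      · subst hy
        simpa [eq_comm] using h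
      · exact Subtype.ext (Subtype.ext (Subtype.ext (hx.trans hy.symm)))
    obtain ⟨a, haT, ha, -, hsq, hcent⟩ := shape hn T ht htT hTW
    obtain ⟨hrel, hsqT⟩ := sq_mem_of_le hW (card_sylow_two hn T) (card_sylow_two hn T') hTW hT'W
    set K : Subgroup G := (T : Subgroup G) ⊓ (T' : Subgroup G) with hKdef
    have hneG : (T : Subgroup G) ≠ T' := fun h => hne (Sylow.ext (map_injective Subtype.coe_injective
      (hT.trans (h.trans hT'.symm))))
    have hK8 : Nat.card K = 8 := by
      have h := card_mul_index ((T' : Subgroup G).subgroupOf (T : Subgroup G))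
      rw [card_sylow_two hn T] at h
      have hc : Nat.card ((T' : Subgroup G).subgroupOf (T : Subgroup G)) = Nat.card K := by
        rw [hKdef, inf_comm, ← subgroupOf_map_subtype, card_map_of_injective Subtype.coe_injective]
      have hne1 : ((T' : Subgroup G).subgroupOf (T : Subgroup G)).index ≠ 1 := fun h1 => hneG
        (eq_of_le_of_card_ge (subgroupOf_eq_top.1 (index_eq_one.1 h1))
          (by rw [card_sylow_two hn T, card_sylow_two hn T']))
      have h2 : ((T' : Subgroup G).subgroupOf (T : Subgroup G)).index ≤ 2 := hrel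
      have h0 : ((T' : Subgroup G).subgroupOf (T : Subgroup G)).index ≠ 0 := FiniteIndex.index_ne_zero
      rw [← hc]
      rw [show ((T' : Subgroup G).subgroupOf (T : Subgroup G)).index = 2 by omega] at h
      omega
    set b := a ^ 2 with hbdef
    have hbK : b ∈ K := ⟨pow_mem haT 2, hsqT a haT⟩
    have hb : orderOf b = 4 := by rw [hbdef, orderOf_pow, ha]; norm_num
    have hvK : v ∈ K := ⟨hvT, hvT'⟩
    have hv1 : v * v = 1 := by rw [← pow_two, ← hv, pow_orderOf_eq_one]
    have hvb : b * v ≠ v * b := fun h => hcent v hvT hv hvt b hbK.1 h hb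
    have hvz : v ∉ zpowers b := fun h => by
      obtain ⟨k, rfl⟩ := mem_zpowers_iff.1 h
      exact hvb (Commute.self_zpow b k)
    -- `K` is generated by `b` and `v`
    have hKidx : ((zpowers b).subgroupOf K).index = 2 := by
      have h := card_mul_index ((zpowers b).subgroupOf K)
      rw [Nat.card_congr (subgroupOfEquivOfLe (zpowers_le.2 hbK)).toEquiv, Nat.card_zpowers, hb, hK8] at h
      omega
    haveI := normal_of_index_eq_two hKidx
    have hcover : ∀ x ∈ K, ∃ i : ℕ, x = b ^ i ∨ x = v * b ^ i := by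
      intro x hx
      by_cases hxb : x ∈ zpowers b
      · obtain ⟨i, hi⟩ := (isOfFinOrder_of_finite b).mem_powers_iff_mem_zpowers.2 hxb
        exact ⟨i, Or.inl hi.symm⟩
      · have := (mul_mem_iff_of_index_two hKidx (a := (⟨v, hvK⟩ : K)⁻¹) (b := ⟨x, hx⟩))
        simp only [inv_mem_iff, mem_subgroupOf] at this
        have hm := this.2 ⟨fun h => absurd h hvz, fun h => absurd h hxb⟩
        obtain ⟨i, hi⟩ := (isOfFinOrder_of_finite b).mem_powers_iff_mem_zpowers.2 hm
        refine ⟨i, Or.inr ?_⟩
        simp only at hi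
        rw [hi]
        simp
    have hinvb : v * b * v⁻¹ = b⁻¹ := by
      have hm : (⟨v, hvK⟩ : K) * ⟨b, hbK⟩ * (⟨v, hvK⟩ : K)⁻¹ ∈ (zpowers b).subgroupOf K :=
        Normal.conj_mem inferInstance _ (mem_subgroupOf.2 (mem_zpowers b)) _
      obtain ⟨i, hi⟩ := (isOfFinOrder_of_finite b).mem_powers_iff_mem_zpowers.2 (mem_subgroupOf.1 hm)
      change b ^ i = v * b * v⁻¹ at hi
      have ho : orderOf (b ^ i) = 4 := by
        rw [hi]; exact (MulEquiv.orderOf_eq (MulAut.conj v) b).trans hb
      have hne1 : b ^ i ≠ b := fun h => hvb (by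
        calc b * v = (v * b * v⁻¹) * v := by rw [← hi, h]
          _ = v * b := by group)
      rw [← hi]
      rw [← pow_mod_orderOf, hb] at ho hne1 ⊢
      rw [orderOf_pow, hb] at ho
      have hlt : i % 4 < 4 := Nat.mod_lt _ (by norm_num)
      generalize i % 4 = j at hlt ho hne1 ⊢
      interval_cases j <;> first
        | exact absurd ho (by decide)
        | exact absurd (pow_one b) hne1
        | exact eq_inv_of_mul_eq_one_left (by rw [← pow_succ]; exact orderOf_dvd_iff_pow_eq_one.1 hb.dvd)
    have hvbi : ∀ i : ℕ, (v * b ^ i) ^ 2 = 1 := fun i => by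
      calc (v * b ^ i) ^ 2 = (v * b ^ i * v⁻¹) * ((v * v) * b ^ i) := by rw [pow_two]; group
        _ = 1 := by rw [← conj_pow, hinvb, hv1, one_mul, inv_pow, inv_mul_cancel]
    -- `W` normalises `K`
    have hKW : ∀ g ∈ W, ∀ x ∈ K, g * x * g⁻¹ ∈ K := by
      have hidx2 : ∀ U : Sylow 2 G, K ≤ (U : Subgroup G) → ∀ g ∈ (U : Subgroup G), ∀ x ∈ K, g * x * g⁻¹ ∈ K := by
        intro U hKU g hg x hx
        have h := card_mul_index (K.subgroupOf (U : Subgroup G))
        rw [Nat.card_congr (subgroupOfEquivOfLe hKU).toEquiv, hK8, card_sylow_two hn U] at h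
        haveI := normal_of_index_eq_two (show (K.subgroupOf (U : Subgroup G)).index = 2 by omega)
        exact (Normal.conj_mem (H := K.subgroupOf (U : Subgroup G)) inferInstance ⟨x, hKU hx⟩ hx ⟨g, hg⟩ :)
      have hsup : W ≤ (T : Subgroup G) ⊔ (T' : Subgroup G) := by
        refine le_of_eq (eq_of_le_of_card_ge (sup_le hTW hT'W) ?_).symm
        set J := (T : Subgroup G) ⊔ (T' : Subgroup G)
        have hd1 : 16 ∣ Nat.card J := card_sylow_two hn T ▸ card_dvd_of_le le_sup_left
        have hd2 : Nat.card J ∣ 48 := hW ▸ card_dvd_of_le (sup_le hTW hT'W)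
        have hne16 : Nat.card J ≠ 16 := fun h => hneG ((eq_of_le_of_card_ge (le_sup_left (b := (T' : Subgroup G)))
          (by rw [h, card_sylow_two hn T])).trans (eq_of_le_of_card_ge le_sup_right
          (by rw [h, card_sylow_two hn T'])).symm)
        have := Nat.le_of_dvd (by norm_num) hd2
        obtain ⟨c, hc⟩ := hd1
        rw [hW]
        rw [hc] at hd2 this hne16 ⊢
        have : c ≤ 3 := by omega
        interval_cases c <;> omega
      have hmem : ∀ U : Sylow 2 G, K ≤ (U : Subgroup G) → (U : Subgroup G) ≤ normalizer (K : Set G) :=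
        fun U hKU g hg => mem_normalizer_fintype (hidx2 U hKU g hg)
      intro g hg x hx
      exact (mem_normalizer_iff.1 (sup_le (hmem T inf_le_left) (hmem T' inf_le_right) (hsup hg)) x).1 hx
    -- the element of order three centralises `K`
    have hord4 : ∀ x ∈ K, orderOf x = 4 → x = b ∨ x = b⁻¹ := by
      intro x hx h4
      obtain ⟨i, rfl | rfl⟩ := hcover x hx
      · rw [← pow_mod_orderOf, hb] at h4 ⊢
        rw [orderOf_pow, hb] at h4
        have hlt : i % 4 < 4 := Nat.mod_lt _ (by norm_num)
        generalize i % 4 = j at hlt h4 ⊢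
        interval_cases j <;> first
          | exact absurd h4 (by decide)
          | exact Or.inl (pow_one b)
          | exact Or.inr (eq_inv_of_mul_eq_one_left (by rw [← pow_succ]; exact orderOf_dvd_iff_pow_eq_one.1 hb.dvd))
      · have := orderOf_dvd_of_pow_eq_one (hvbi i)
        rw [h4] at this
        norm_num at this
    have hrb : (r : G) * b * (r : G)⁻¹ = b := by
      have h1 := hord4 _ (hKW r r.2 b hbK) ((MulEquiv.orderOf_eq (MulAut.conj (r : G)) b).trans hb)
      rcases h1 with h1 | h1
      · exact h1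
      · exfalso
        have e : ((r : G) ^ 3) * b * ((r : G) ^ 3)⁻¹ = b⁻¹ := by
          calc ((r : G) ^ 3) * b * ((r : G) ^ 3)⁻¹
              = (r : G) * ((r : G) * ((r : G) * b * (r : G)⁻¹) * (r : G)⁻¹) * (r : G)⁻¹ := by
                simp only [pow_succ, pow_zero, one_mul]; group
            _ = b⁻¹ := by rw [h1, ← conj_inv, h1, inv_inv, h1]
        rw [hr3, one_mul, inv_one, mul_one] at e
        have h2 : b ^ 2 = 1 := by rw [pow_two]; nth_rw 2 [e]; exact mul_inv_cancel b
        have := orderOf_dvd_of_pow_eq_one h2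
        rw [hb] at this
        norm_num at this
    have hrv : (r : G) * v * (r : G)⁻¹ = v := by
      obtain ⟨i, h | h⟩ := hcover _ (hKW r r.2 v hvK)
      · exfalso
        apply hvz
        have hbi : (r : G) * b ^ i * (r : G)⁻¹ = b ^ i := by rw [← conj_pow, hrb]
        have : v = b ^ i := by
          have e := h.trans hbi.symm
          simpa using e
        rw [this]
        exact pow_mem (mem_zpowers b) i
      · have hbi : ∀ j : ℕ, (r : G) * (v * b ^ j) * (r : G)⁻¹ = v * b ^ (i + j) := fun j => by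
          calc (r : G) * (v * b ^ j) * (r : G)⁻¹
              = ((r : G) * v * (r : G)⁻¹) * ((r : G) * b ^ j * (r : G)⁻¹) := by group
            _ = v * b ^ (i + j) := by rw [h, ← conj_pow, hrb, mul_assoc, ← pow_add]
        have e : ((r : G) ^ 3) * v * ((r : G) ^ 3)⁻¹ = v * b ^ (i + (i + i)) := by
          calc ((r : G) ^ 3) * v * ((r : G) ^ 3)⁻¹
              = (r : G) * ((r : G) * ((r : G) * v * (r : G)⁻¹) * (r : G)⁻¹) * (r : G)⁻¹ := by
                simp only [pow_succ, pow_zero, one_mul]; group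
            _ = _ := by rw [h, hbi, hbi]
        rw [hr3, one_mul, inv_one, mul_one] at e
        have h4 : orderOf b ∣ i + (i + i) := orderOf_dvd_of_pow_eq_one (left_eq_mul.1 e)
        rw [hb] at h4
        rw [h, orderOf_dvd_iff_pow_eq_one.1 (show orderOf b ∣ i by rw [hb]; omega), mul_one]
    have hKr : ∀ x ∈ K, x * (r : G) = r * x := by
      intro x hx
      have : (r : G) * x * (r : G)⁻¹ = x := by
        obtain ⟨i, rfl | rfl⟩ := hcover x hx
        · rw [← conj_pow, hrb]
        · calc (r : G) * (v * b ^ i) * (r : G)⁻¹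
              = ((r : G) * v * (r : G)⁻¹) * ((r : G) * b ^ i * (r : G)⁻¹) := by group
            _ = v * b ^ i := by rw [hrv, ← conj_pow, hrb]
      conv_lhs => rw [← this]
      group
    refine hnotn r hr (normal_three hW hr (K := K.subgroupOf W) ?_ fun x hx => ?_)
    · rw [Nat.card_congr (subgroupOfEquivOfLe (inf_le_left.trans hTW : K ≤ W)).toEquiv, hK8]
    · exact mem_centralizer_singleton_iff.2 (Subtype.ext (hKr x hx))
  haveI := SolvableTwo.oddCore_normal (G := W)
  let e : W ⧸ Cfsg.oddCore W ≃* W := (QuotientGroup.quotientMulEquivOfEq hO).trans QuotientGroup.quotientBot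
  rcases Cfsg.Agent.S3304.result hsol hI with ⟨P, hP⟩ | ⟨⟨f⟩⟩ | ⟨-, -, -, hQ⟩
  · obtain ⟨Q, hQ⟩ : ∃ Q : Sylow 2 W, (Q : Subgroup W) = (P : Subgroup _).map e.toMonoidHom := by
      obtain ⟨Q, hQ⟩ := (P.isPGroup'.map e.toMonoidHom).exists_le_sylow
      refine ⟨Q, (eq_of_le_of_card_ge hQ ?_).symm⟩
      rw [card_map_of_injective e.injective, Sylow.card_eq_multiplicity, Sylow.card_eq_multiplicity,
        Nat.card_congr e.toEquiv]
    exact (hS2 Q (hQ ▸ hP.map e.toMonoidHom e.surjective)).elim
  · exact ⟨e.symm.trans f⟩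
  · exfalso
    obtain ⟨T, htT, hTW⟩ := exists_sylow_le hn ht (H := zpowers t)
      (IsPGroup.of_card (n := 1) (by rw [Nat.card_zpowers, ht, pow_one]))
      (zpowers_le.2 (mem_centralizer_singleton_iff.2 rfl))
    obtain ⟨P, hP⟩ := ((T.isPGroup'.of_equiv (subgroupOfEquivOfLe hTW).symm).map e.symm.toMonoidHom).exists_le_sylow
    obtain ⟨f⟩ := hQ P
    obtain ⟨s, hsT, hs, hst⟩ := exists_other_involution hn T t
    have hmem : ∀ x (hx : x ∈ (T : Subgroup G)), e.symm ⟨x, hTW hx⟩ ∈ (P : Subgroup _) := fun x hx =>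
      hP ⟨_, mem_subgroupOf.2 hx, rfl⟩
    have hord : ∀ x (hx : x ∈ (T : Subgroup G)), orderOf x = 2 → orderOf (f ⟨_, hmem x hx⟩) = 2 :=
      fun x hx h => by
        rw [MulEquiv.orderOf_eq, ← Subgroup.orderOf_coe]
        show orderOf (e.symm ⟨x, hTW hx⟩) = 2
        rw [MulEquiv.orderOf_eq, ← Subgroup.orderOf_coe]
        exact h
    have h1 := Cfsg.Agent.S0218.result 1
    rw [Nat.card_eq_one_iff_unique] at h1
    haveI := h1.1
    have heq := congrArg Subtype.val (Subsingleton.elim
      (⟨f ⟨_, hmem s hsT⟩, hord s hsT hs⟩ : {x : QuaternionGroup (2 ^ (1 + 1)) // orderOf x = 2})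
      ⟨f ⟨_, hmem t (htT (mem_zpowers t))⟩, hord t (htT (mem_zpowers t)) ht⟩)
    exact hst (congrArg Subtype.val (e.symm.injective (congrArg Subtype.val (f.injective heq))))

end Cfsg.Agent.Order5616
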