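import Cfsg.Agent.Lib.SmallSimple.ExceptionalDegree
import Cfsg.Agent.Lib.SmallSimple.Below6233.Criteria
import Cfsg.Agent.Lib.SmallSimple.FiveCases
import Cfsg.Agent.Lib.DefectOne.Three
import Cfsg.Agent.Lib.Blocks.PrimePowerDegree
import Cfsg.Agent.Lib.Blocks.CentralChar
import Cfsg.Agent.Lib.Char.PRegular
import Cfsg.Agent.S1001

/-!
# A simple group of order 5616: involution centralisers have order 48 and form one class

The principal 13-block has degrees `1, 27, 12, 16, 16, 16, 16`; at an involution the values are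
`1, 3, 4, 0`.
-/

set_option autoImplicit false
set_option linter.style.haveILetI false
set_option linter.unusedSectionVars false

namespace Cfsg.Agent.Order5616

open Cfsg Cfsg.Agent Cfsg.Agent.Char Cfsg.Agent.OddOrder SmallSimple
open scoped ComplexConjugate

universe u

variable {G : Type u} [Group G] [Finite G] [IsSimpleGroup G]

theorem not_comm (hn : Nat.card G = 5616) : ¬ IsMulCommutative G := fun h => by
  haveI := h
  have := CharInt.card_prime_of_simple_comm (G := G) (fun a b => mul_comm' a b)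
  rw [hn] at this
  norm_num at this

/-- The Sylow 13-subgroup is self-centralising with normaliser of order 39. -/
theorem thirteen_data (hn : Nat.card G = 5616) [Fact (Nat.Prime 13)] (P : Sylow 13 G) :
    Nat.card (P : Subgroup G) = 13 ∧ IsSelfCent (P : Subgroup G) ∧
      Nat.card (Subgroup.normalizer ((P : Subgroup G) : Set G)) = 39 ∧
      ((P : Subgroup G).subgroupOf (Subgroup.normalizer ((P : Subgroup G) : Set G))).index = 3 := by
  have hG := not_comm hn
  obtain ⟨d, c, hmem, -, hC, hN, hP⟩ :=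
    Below6233.exists_opt hG (p := 13) (m := 432) (by decide) hn (by norm_num) (by norm_num) P
  have hs : ∀ x ∈ (P : Subgroup G), x ≠ 1 →
      Subgroup.centralizer ({x} : Set G) = (P : Subgroup G) := by
    intro x hx hx1
    have ho : orderOf x = 13 := by
      have hd : orderOf x ∣ 13 := hP ▸ Subgroup.orderOf_dvd_natCard _ hx
      rcases (Nat.dvd_prime (by norm_num : Nat.Prime 13)).1 hd with h | h
      · exact absurd (orderOf_eq_one_iff.1 h) hx1
      · exact h
    rw [Cfsg.Agent.S1001.result 13 3 4 (by norm_num) (by rw [hn]; norm_num) x ho]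
    exact Subgroup.eq_of_le_of_card_ge (Subgroup.zpowers_le.2 hx) (by rw [hP, Nat.card_zpowers, ho])
  have hA : IsSelfCent (P : Subgroup G) := fun x hx hx1 => hs x hx hx1
  have hCP : Subgroup.centralizer ((P : Subgroup G) : Set G) = (P : Subgroup G) := by
    haveI : IsMulCommutative (P : Subgroup G) := (isCyclic_of_prime_card hP).isMulCommutative
    refine le_antisymm (fun g hg => ?_) (Subgroup.le_centralizer _)
    obtain ⟨⟨x, hxP⟩, hx⟩ := exists_prime_orderOf_dvd_card' (G := (P : Subgroup G)) 13 hP.symm.dvd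
    have hx1 : x ≠ 1 := fun h => by
      rw [← Subgroup.orderOf_coe, show ((⟨x, hxP⟩ : (P : Subgroup G)) : G) = 1 from h, orderOf_one] at hx
      omega
    rw [← hs x hxP hx1]
    exact Subgroup.mem_centralizer_singleton_iff.2 (hg x hxP).symm
  rw [show Below6233.opts 13 5616 432 = [(144, 1)] by decide +kernel] at hmem
  simp only [List.mem_singleton, Prod.mk.injEq] at hmem
  obtain ⟨rfl, rfl⟩ := hmem
  have hN39 : Nat.card (Subgroup.normalizer ((P : Subgroup G) : Set G)) = 39 := by omega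
  refine ⟨hP, hA, hN39, ?_⟩
  have h := Subgroup.card_mul_index ((P : Subgroup G).subgroupOf (Subgroup.normalizer ((P : Subgroup G) : Set G)))
  rw [Nat.card_congr (Subgroup.subgroupOfEquivOfLe Subgroup.le_normalizer).toEquiv, hP, hN39] at h
  omega

/-- The characters used below: `a, b` of degrees 27, 12 and the four exceptional ones of degree 16. -/
theorem values [Fintype G] (hn : Nat.card G = 5616) :
    ∃ (a b : IrrCharacter G) (θ : Fin 4 → IrrCharacter G), a ≠ trivialChar G ∧ b ≠ trivialChar G ∧ a ≠ b ∧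
      Char.degree a = 27 ∧ Char.degree b = 12 ∧ Function.Injective θ ∧
      (∀ i, θ i ≠ a ∧ θ i ≠ b ∧ θ i ≠ trivialChar G) ∧
      ∀ t : G, orderOf t = 2 → a.1 t = 3 ∧ b.1 t = 4 ∧ ∀ i, (θ i).1 t = 0 := by
  classical
  haveI : Fact (Nat.Prime 13) := ⟨by norm_num⟩
  haveI : Fact (Nat.Prime 2) := ⟨Nat.prime_two⟩
  have hG := not_comm hn
  obtain ⟨P⟩ := (inferInstance : Nonempty (Sylow 13 G))
  obtain ⟨hP, hA, hN, hidx⟩ := thirteen_data hn P
  obtain ⟨D, T, z, hδ, hTc, hT, hz, htriv, -, hrest⟩ :=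
    exists_block hG hA hP hidx (s := 4) (by norm_num) (by norm_num) (by norm_num) (by norm_num)
  obtain ⟨χ₁, χ₂, hne, rfl⟩ := Finset.card_eq_two.1 (show T.card = 2 by omega)
  obtain ⟨h1ne, h1r, h1s⟩ := hT χ₁ (by simp)
  obtain ⟨h2ne, h2r, h2s⟩ := hT χ₂ (by simp)
  obtain ⟨x, hx⟩ : ∃ x : (P : Subgroup G), x ≠ 1 := by
    haveI : Nontrivial (P : Subgroup G) := Finite.one_lt_card_iff_nontrivial.1 (by rw [hP]; norm_num)
    exact exists_ne 1
  have hxG : (x : G) ≠ 1 := fun h => hx (Subtype.ext h)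
  have hdeg := block_sum (p := 13) hδ hT hz htriv hrest (fun ψ => ψ.1 1) 0 (fun i => D.off_one i 0) hx
  rw [sum_irr_degree_mul, if_neg hxG, Finset.sum_pair hne, trivialChar_apply] at hdeg
  simp only [apply_one_eq_degree] at hdeg
  have hcand : ∀ χ ∈ ({χ₁, χ₂} : Finset (IrrCharacter G)),
      (z χ = 1 ∧ Char.degree χ = 27) ∨ (z χ = -1 ∧ Char.degree χ = 12) := by
    intro χ hχ
    obtain ⟨hne1, hr, hs⟩ := hT χ hχ
    have hd : Char.degree χ ∣ 5616 := hn ▸ degree_dvd_natCard χ
    have hsq : Char.degree χ * Char.degree χ < 5616 := by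
      have h := FivePairs.degree_sq_lt hG hne1
      rwa [charDegree_eq_degree, hn] at h
    have h2 : 2 ≤ Char.degree χ := by
      have := degree_pos χ
      by_contra hc
      exact hne1 (eq_trivialChar_of_degree_one hG χ
        (by rw [apply_one_eq_degree, show Char.degree χ = 1 by omega, Nat.cast_one]))
    haveI := Fintype.ofFinite (P : Subgroup G)
    obtain ⟨k, hk⟩ := IsCharacter.exists_nat_classInner
      (IsCharacter.restrict (irr_isCharacter χ) (P : Subgroup G)) (irr_isCharacter (trivialChar (P : Subgroup G)))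
    simp only [classInner, trivialChar_apply, map_one, mul_one, hP] at hk
    rw [sum_over_nontrivial (fun y : (P : Subgroup G) => χ.1 (y : G)) (z χ) (fun y hy => hz _ hr y hy),
      Subgroup.coe_one, apply_one_eq_degree, ← Nat.card_eq_fintype_card, hP,
      inv_mul_eq_iff_eq_mul₀ (by norm_num)] at hk
    have hkZ : (Char.degree χ : ℤ) + 12 * z χ = 13 * k := by
      have h : (((Char.degree χ : ℤ) + 12 * z χ : ℤ) : ℂ) = ((13 * k : ℤ) : ℂ) := by
        push_cast at hk ⊢; linear_combination hk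
      exact_mod_cast h
    have key : ∀ d ∈ List.range 75, 2 ≤ d → d * d < 5616 → 5616 % d = 0 →
        (d % 13 = 1 → d = 27) ∧ (d % 13 = 12 → d = 12) := by decide +kernel
    have hk' := key (Char.degree χ) (List.mem_range.2 (by nlinarith)) h2 hsq (Nat.mod_eq_zero_of_dvd hd)
    rcases hs with h | h <;> rw [h] at hkZ ⊢
    · exact Or.inl ⟨rfl, hk'.1 (by omega)⟩
    · exact Or.inr ⟨rfl, hk'.2 (by omega)⟩
  set f := Char.degree (D.θ 0) with hf
  have hdegZ : (0 : ℤ) = 1 + (z χ₁ * Char.degree χ₁ + z χ₂ * Char.degree χ₂) - D.ε * f := by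
    have h : (((0 : ℤ)) : ℂ) = ((1 + (z χ₁ * Char.degree χ₁ + z χ₂ * Char.degree χ₂) - D.ε * f : ℤ) : ℂ) := by
      push_cast
      linear_combination hdeg
    exact_mod_cast h
  have hfd : f ∣ 5616 := hn ▸ degree_dvd_natCard _
  obtain ⟨a, b, hab, hza, hzb, hda, hdb, hsel, hf16, hε⟩ :
      ∃ a b : IrrCharacter G, a ≠ b ∧ z a = 1 ∧ z b = -1 ∧ Char.degree a = 27 ∧ Char.degree b = 12 ∧
        ({χ₁, χ₂} : Finset (IrrCharacter G)) = {a, b} ∧ f = 16 ∧ D.ε = 1 := by
    rcases hcand χ₁ (by simp) with ⟨e1, f1⟩ | ⟨e1, f1⟩ <;> rcases hcand χ₂ (by simp) with ⟨e2, f2⟩ | ⟨e2, f2⟩ <;>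
      rw [e1, f1, e2, f2] at hdegZ <;> rcases D.ε_eq with hε | hε <;> rw [hε] at hdegZ <;>
      push_cast at hdegZ <;>
      first
      | (exfalso; omega)
      | exact ⟨χ₁, χ₂, hne, e1, e2, f1, f2, rfl, by omega, hε⟩
      | exact ⟨χ₂, χ₁, hne.symm, e2, e1, f2, f1, Finset.pair_comm _ _, by omega, hε⟩
      | (exfalso
         have h55 : f = 55 ∨ f = 23 := by omega
         rcases h55 with h | h <;> rw [h] at hfd <;> norm_num at hfd)
  have hane : a ≠ trivialChar G := (hT a (by rw [hsel]; simp)).1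
  have hbne : b ≠ trivialChar G := (hT b (by rw [hsel]; simp)).1
  refine ⟨a, b, D.θ, hane, hbne, hab, hda, hdb, D.inj, fun i => ⟨fun h => ?_, fun h => ?_, fun h => ?_⟩, ?_⟩
  · exact (hT a (by rw [hsel]; simp)).2.1 ⟨i, h⟩
  · exact (hT b (by rw [hsel]; simp)).2.1 ⟨i, h⟩
  · exact htriv ⟨i, h⟩
  intro t ht
  have hnotP : ∀ c : G, c⁻¹ * t * c ∉ (P : Subgroup G) := fun c hc => by
    have h := Subgroup.orderOf_dvd_natCard _ hc
    rw [hP, show c⁻¹ * t * c = MulAut.conj c⁻¹ t by simp, MulEquiv.orderOf_eq, ht] at h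
    norm_num at h
  have hθ0 : ∀ i, (D.θ i).1 t = 0 := by
    intro i
    obtain ⟨M, hM⟩ := CharInt.exists_isPModular_of_prime (q := 2) Nat.prime_two
    haveI := hM.2.1
    refine Blocks.apply_eq_zero_of_defect_zero (p := 2) hM.2.2 (D.θ i) ?_ (by rw [IsPRegular, ht]; norm_num)
    have hd16 : Char.degree (D.θ i) = 16 := by
      have h := D.off_one i 0
      rw [apply_one_eq_degree, apply_one_eq_degree] at h
      rw [← hf16, hf]
      exact_mod_cast h
    rw [hd16, hn, SmallSimple.factorization_mul_eq Nat.prime_two (show 16 = 2 ^ 4 * 1 by norm_num) (by norm_num),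
      SmallSimple.factorization_mul_eq Nat.prime_two (show 5616 = 2 ^ 4 * 351 by norm_num) (by norm_num)]
  obtain ⟨A₁, hA₁⟩ := DefectOne.exists_int_apply ht a
  obtain ⟨B₁, hB₁⟩ := DefectOne.exists_int_apply ht b
  have hxo : orderOf (x : G) = 13 := by
    have hd : orderOf (x : G) ∣ 13 := (Subgroup.orderOf_dvd_natCard _ x.2).trans hP.dvd
    rcases (Nat.dvd_prime (by norm_num : Nat.Prime 13)).1 hd with h | h
    · exact absurd (orderOf_eq_one_iff.1 h) hxG
    · exact h
  have hxinv : x⁻¹ ≠ 1 := inv_ne_one.2 hx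
  have hval : ∀ ψ : IrrCharacter G, ψ.1 ((x⁻¹ : (P : Subgroup G)) : G) = conj (ψ.1 (x : G)) := fun ψ => by
    rw [Subgroup.coe_inv]; exact (IsCharacter.conj_apply (irr_isCharacter ψ) _).symm
  have hlin := block_sum (p := 13) hδ hT hz htriv hrest (fun ψ => ψ.1 t) 0 (fun i => D.off i 0 t hnotP) hxinv
  rw [Finset.sum_congr rfl (fun ψ _ => by rw [hval ψ]), sum_irr_mul_conj, if_neg (fun h => by
      obtain ⟨c, hc⟩ := isConj_iff.1 h
      have h2 : orderOf (x : G) = orderOf t := by rw [← hc, ← MulAut.conj_apply, MulEquiv.orderOf_eq]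
      omega), trivialChar_apply, hsel, Finset.sum_pair hab, hza, hzb, hA₁, hB₁, hθ0] at hlin
  have hquad := block_sum (p := 13) hδ hT hz htriv hrest (fun ψ => ψ.1 t * ψ.1 t / ψ.1 1) 0
    (fun i => by rw [D.off i 0 t hnotP, D.off_one i 0]) hx
  have hzero : ∑ ψ : IrrCharacter G, ψ.1 t * ψ.1 t / ψ.1 1 * ψ.1 (x : G) = 0 := by
    have h := DefectOne.twoProd_eq_zero (v := (x : G)) ht (fun t₁ t₂ h₁ h₂ he => ?_)
    · rw [DefectOne.twoProd, Finset.sum_apply] at h
      simpa [Pi.smul_apply, smul_eq_mul] using h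
    -- an involution would invert `x`, but `N(P)` has odd order
    have hinvol : ∀ v, IsConj t v → v * v = 1 ∧ orderOf v = 2 := fun v hv => by
      obtain ⟨c, rfl⟩ := isConj_iff.1 hv
      have ho : orderOf (c * t * c⁻¹) = 2 := by rw [← MulAut.conj_apply, MulEquiv.orderOf_eq, ht]
      exact ⟨by rw [← pow_two, ← ho, pow_orderOf_eq_one], ho⟩
    obtain ⟨h11, ho1⟩ := hinvol t₁ h₁
    obtain ⟨h22, -⟩ := hinvol t₂ h₂
    have hi1 : t₁⁻¹ = t₁ := inv_eq_of_mul_eq_one_right h11
    have hi2 : t₂⁻¹ = t₂ := inv_eq_of_mul_eq_one_right h22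
    have hconj : t₁ * (x : G) * t₁⁻¹ = (x : G)⁻¹ := by
      rw [← he, mul_inv_rev, hi1, hi2, ← mul_assoc, h11, one_mul]
    have hgen : Subgroup.zpowers (x : G) = (P : Subgroup G) :=
      Subgroup.eq_of_le_of_card_ge (Subgroup.zpowers_le.2 x.2) (by rw [hP, Nat.card_zpowers, hxo])
    have hmem : t₁ ∈ Subgroup.normalizer ((P : Subgroup G) : Set G) := by
      rw [← hgen, Subgroup.mem_normalizer_iff]
      have hfwd : ∀ y ∈ Subgroup.zpowers (x : G), t₁ * y * t₁⁻¹ ∈ Subgroup.zpowers (x : G) := by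
        intro y hy
        obtain ⟨i, rfl⟩ := Subgroup.mem_zpowers_iff.1 hy
        rw [← conj_zpow, hconj]
        exact zpow_mem (inv_mem (Subgroup.mem_zpowers _)) i
      intro y
      refine ⟨hfwd y, fun hy => ?_⟩
      have h := hfwd _ hy
      rwa [hi1, show t₁ * (t₁ * y * t₁) * t₁ = (t₁ * t₁) * y * (t₁ * t₁) by group, h11, one_mul, mul_one] at h
    have h39 := Subgroup.orderOf_dvd_natCard _ hmem
    rw [hN, ho1] at h39
    norm_num at h39
  rw [hzero, hθ0, trivialChar_apply, trivialChar_apply, hsel, Finset.sum_pair hab, hza, hzb, hA₁, hB₁,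
    apply_one_eq_degree a, apply_one_eq_degree b, hda, hdb] at hquad
  have e1 : B₁ = 1 + A₁ := by
    have h : ((B₁ : ℤ) : ℂ) = ((1 + A₁ : ℤ) : ℂ) := by
      push_cast at hlin ⊢; linear_combination hlin
    exact_mod_cast h
  have e2 : 108 + 4 * A₁ ^ 2 - 9 * B₁ ^ 2 = 0 := by
    have h : (((108 + 4 * A₁ ^ 2 - 9 * B₁ ^ 2 : ℤ)) : ℂ) = ((0 : ℤ) : ℂ) := by
      push_cast at hquad ⊢; linear_combination -108 * hquad
    exact_mod_cast h
  have hA3 : A₁ = 3 := by
    subst e1
    have h : (5 * A₁ + 33) * (A₁ - 3) = 0 := by linear_combination -e2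
    rcases mul_eq_zero.1 h with h | h <;> omega
  subst hA3
  refine ⟨by rw [hA₁]; norm_num, by rw [hB₁, e1]; norm_num, hθ0⟩

/-- Every involution centraliser has order 48. -/
theorem card_centralizer (hn : Nat.card G = 5616) {t : G} (ht : orderOf t = 2) :
    Nat.card (Subgroup.centralizer ({t} : Set G)) = 48 := by
  classical
  haveI := Fintype.ofFinite G
  haveI : Fact (Nat.Prime 13) := ⟨by norm_num⟩
  obtain ⟨a, b, θ, ha1, hb1, hab, hda, hdb, -, -, hv⟩ := values hn
  obtain ⟨hva, hvb, -⟩ := hv t ht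
  set C := Subgroup.centralizer ({t} : Set G) with hC
  have h26 := FivePairs.sum_sq_le (t := t) ({trivialChar G, a, b} : Finset (IrrCharacter G))
    (fun χ => if χ = a then 3 else if χ = b then 4 else 1) (fun χ hχ => by
      simp only [Finset.mem_insert, Finset.mem_singleton] at hχ
      rcases hχ with rfl | rfl | rfl
      · rw [if_neg (Ne.symm ha1), if_neg (Ne.symm hb1), trivialChar_apply]; norm_num
      · rw [if_pos rfl, hva]; norm_num
      · rw [if_neg hab.symm, if_pos rfl, hvb]; norm_num)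
  rw [Finset.sum_insert (by simp [Ne.symm ha1, Ne.symm hb1]), Finset.sum_pair hab,
    if_neg (Ne.symm ha1), if_neg (Ne.symm hb1), if_pos rfl, if_neg hab.symm, if_pos rfl] at h26
  have hmul := Subgroup.card_mul_index C
  rw [hn] at hmul
  have hdiv : ∀ (χ : IrrCharacter G) (d v : ℕ), Char.degree χ = d → χ.1 t = (v : ℂ) →
      d * Nat.card C ∣ 5616 * v := by
    intro χ d v hd hval
    obtain ⟨w, hw⟩ := Char.exists_int_of_isIntegral_mul (Blocks.isIntegral_centralChar (χ := χ) t)
      (c := (d : ℤ) * (Nat.card C : ℤ)) (N := (5616 * v : ℕ))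
      (mul_ne_zero (by rw [← hd]; exact_mod_cast (degree_pos χ).ne') (by exact_mod_cast Nat.card_pos.ne'))
      (by
        rw [centralChar, ← hC, hval, apply_one_eq_degree, hd]
        have hd0 : (d : ℂ) ≠ 0 := by rw [← hd]; exact_mod_cast (degree_pos χ).ne'
        have hmC : (Nat.card C : ℂ) * (C.index : ℂ) = 5616 := by exact_mod_cast hmul
        field_simp
        push_cast
        linear_combination (v : ℂ) * (d : ℂ) * hmC)
    rw [centralChar, ← hC, hval, apply_one_eq_degree, hd] at hw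
    have h : (5616 * v : ℕ) = (d * Nat.card C : ℕ) * w := by
      have hd0 : (d : ℂ) ≠ 0 := by rw [← hd]; exact_mod_cast (degree_pos χ).ne'
      have hmC : (Nat.card C : ℂ) * (C.index : ℂ) = 5616 := by exact_mod_cast hmul
      have hh : (((5616 * v : ℕ) : ℤ) : ℂ) = (((d * Nat.card C : ℕ) : ℤ) * w : ℤ) := by
        field_simp at hw
        push_cast
        linear_combination (Nat.card C : ℂ) * hw - (v : ℂ) * hmC
      exact_mod_cast hh
    exact Int.natCast_dvd_natCast.1 ⟨w, h⟩
  have h1 := hdiv a 27 3 hda (by rw [hva]; norm_num)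
  have h13 : ¬ 13 ∣ Nat.card C := by
    intro h
    obtain ⟨⟨y, hyC⟩, hy⟩ := exists_prime_orderOf_dvd_card' (G := C) 13 h
    rw [← Subgroup.orderOf_coe] at hy
    have hc := Cfsg.Agent.S1001.result 13 3 4 (by norm_num) (by rw [hn]; norm_num) y hy
    have htc : t ∈ Subgroup.centralizer ({y} : Set G) :=
      Subgroup.mem_centralizer_singleton_iff.2 (Subgroup.mem_centralizer_singleton_iff.1 hyC).symm
    rw [hc] at htc
    have h2 := Subgroup.orderOf_dvd_natCard _ htc
    rw [Nat.card_zpowers, hy, ht] at h2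
    norm_num at h2
  have h624 : Nat.card C ∣ 624 := Nat.dvd_of_mul_dvd_mul_left (by norm_num : 0 < 27) (by
    rw [show 27 * 624 = 5616 * 3 by norm_num]; exact h1)
  have h48 : Nat.card C ∣ 48 :=
    ((Nat.Prime.coprime_iff_not_dvd (by norm_num : Nat.Prime 13)).2 h13).symm.dvd_of_dvd_mul_left
      (show Nat.card C ∣ 13 * 48 from h624)
  have hle := Nat.le_of_dvd (by norm_num) h48
  have hge : 26 ≤ Nat.card C := by
    have : (26 : ℤ) ≤ (Nat.card C : ℤ) := by linarith
    exact_mod_cast this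
  obtain ⟨q, hq⟩ := h48
  generalize Nat.card C = c at *
  interval_cases c <;> omega

/-- All involutions are conjugate. -/
theorem isConj_of_involutions (hn : Nat.card G = 5616) {t u : G} (ht : orderOf t = 2) (hu : orderOf u = 2) :
    IsConj t u := by
  classical
  haveI := Fintype.ofFinite G
  by_contra hc
  obtain ⟨a, b, θ, ha1, hb1, hab, -, -, -, -, hv⟩ := values hn
  obtain ⟨hta, htb, -⟩ := hv t ht
  obtain ⟨hua, hub, -⟩ := hv u hu
  have hint : ∀ v : G, orderOf v = 2 → ∀ χ : IrrCharacter G, ∃ k : ℤ, χ.1 v = k := fun v hv χ =>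
    DefectOne.exists_int_apply hv χ
  choose kt hkt using hint t ht
  choose ku hku using hint u hu
  set S : Finset (IrrCharacter G) := {trivialChar G, a, b}
  have hnot : trivialChar G ∉ ({a, b} : Finset (IrrCharacter G)) := by simp [Ne.symm ha1, Ne.symm hb1]
  have hcol : ∀ (v w : G) (kv kw : IrrCharacter G → ℤ), (∀ χ, χ.1 v = kv χ) → (∀ χ, χ.1 w = kw χ) →
      ((∑ χ, kv χ * kw χ : ℤ) : ℂ) = ∑ χ : IrrCharacter G, χ.1 v * conj (χ.1 w) := by
    intro v w kv kw h1 h2
    push_cast
    exact Finset.sum_congr rfl fun χ _ => by rw [h1, h2, map_intCast]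
  have htu : ∑ χ, kt χ * ku χ = 0 := by
    have h := hcol t u kt ku hkt hku
    rw [sum_irr_mul_conj, if_neg hc] at h
    exact_mod_cast h
  have htt : ∑ χ, kt χ * kt χ = 48 := by
    have h := hcol t t kt kt hkt hkt
    rw [sum_irr_mul_conj, if_pos (IsConj.refl t), card_centralizer hn ht] at h
    exact_mod_cast h
  have huu : ∑ χ, ku χ * ku χ = 48 := by
    have h := hcol u u ku ku hku hku
    rw [sum_irr_mul_conj, if_pos (IsConj.refl u), card_centralizer hn hu] at h
    exact_mod_cast h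
  have hval : ∀ (v : G) (k : IrrCharacter G → ℤ), (∀ χ, χ.1 v = k χ) → a.1 v = 3 → b.1 v = 4 →
      k (trivialChar G) = 1 ∧ k a = 3 ∧ k b = 4 := by
    intro v k hk h3 h4
    refine ⟨?_, ?_, ?_⟩
    · have h := (hk (trivialChar G)).symm; rw [trivialChar_apply] at h; exact_mod_cast h
    · have h := (hk a).symm; rw [h3] at h; exact_mod_cast h
    · have h := (hk b).symm; rw [h4] at h; exact_mod_cast h
  obtain ⟨t1, t3, t4⟩ := hval t kt hkt hta htb
  obtain ⟨u1, u3, u4⟩ := hval u ku hku hua hub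
  have hsplit : ∀ F : IrrCharacter G → ℤ,
      ∑ χ, F χ = F (trivialChar G) + (F a + F b) + ∑ χ ∈ Sᶜ, F χ := by
    intro F
    rw [← Finset.sum_add_sum_compl S, Finset.sum_insert hnot, Finset.sum_pair hab]
  have h1 := hsplit fun χ => kt χ * ku χ
  have h2 := hsplit fun χ => kt χ * kt χ
  have h3 := hsplit fun χ => ku χ * ku χ
  have hnn : (0 : ℤ) ≤ ∑ χ ∈ Sᶜ, (kt χ + ku χ) ^ 2 := Finset.sum_nonneg fun χ _ => sq_nonneg _
  rw [Finset.sum_congr rfl fun χ _ => show (kt χ + ku χ) ^ 2 =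
    kt χ * kt χ + ku χ * ku χ + 2 * (kt χ * ku χ) by ring, Finset.sum_add_distrib, Finset.sum_add_distrib,
    ← Finset.mul_sum] at hnn
  simp only [htu, htt, huu, t1, t3, t4, u1, u3, u4] at h1 h2 h3
  linarith

end Cfsg.Agent.Order5616
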