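import Cfsg.Agent.Lib.Order5616.Chars
import Cfsg.Agent.Lib.Perm.PrimeDegree
import Cfsg.Agent.Lib.SmallSimple.Below6233.CasesA

/-!
# A simple group of order 5616: overgroups of a Sylow 2-subgroup of index 13

No subgroup of index 13 has a normal abelian 3-subgroup containing an element of order 3 centralised
by a central involution of one of its Sylow 2-subgroups.
-/

set_option autoImplicit false
set_option linter.style.haveILetI false
set_option linter.unusedSectionVars false

namespace Cfsg.Agent.Order5616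

open Subgroup MulAction SmallSimple

universe u

variable {G : Type u} [Group G] [Finite G] [IsSimpleGroup G]

/-- A 2-group whose involutions fix only the base point acts semiregularly elsewhere. -/
theorem card_dvd_pred {X : Type*} [MulAction G X] [Finite X] (T : Subgroup G) (hT : IsPGroup 2 T)
    (x₀ : X) (hfix : ∀ g ∈ T, g • x₀ = x₀)
    (hone : ∀ u ∈ T, orderOf u = 2 → ∀ q : X, u • q = q → q = x₀) :
    Nat.card T ∣ Nat.card X - 1 := by
  classical
  haveI : Fact (Nat.Prime 2) := ⟨Nat.prime_two⟩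
  letI act : MulAction T {q : X // q ≠ x₀} :=
    { smul := fun g q => ⟨(g : G) • q.1, fun h => q.2 (by
          exact smul_left_cancel (g : G) (h.trans (hfix g g.2).symm))⟩
      mul_smul := fun a b q => Subtype.ext (mul_smul (a : G) (b : G) q.1)
      one_smul := fun q => Subtype.ext (one_smul G q.1) }
  have hcard : Nat.card {q : X // q ≠ x₀} = Nat.card X - 1 := by
    haveI := Fintype.ofFinite X
    rw [Nat.card_eq_fintype_card, Nat.card_eq_fintype_card, Fintype.card_subtype_compl,
      Fintype.card_subtype_eq]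
  rw [← hcard]
  refine SmallSimple.dvd_card_of_dvd_card_orbit (G := T) _ fun q => ?_
  have hst : stabilizer T q = ⊥ := by
    by_contra h
    obtain ⟨g, hg, hg1⟩ := (Subgroup.bot_or_exists_ne_one (stabilizer T q)).resolve_left h
    obtain ⟨k, hk⟩ := hT g
    -- a power of `g` is an involution fixing `q`
    have hk' : orderOf g ∣ 2 ^ k := orderOf_dvd_of_pow_eq_one hk
    obtain ⟨j, -, hj⟩ := (Nat.dvd_prime_pow Nat.prime_two).1 hk'
    obtain ⟨i, rfl⟩ : ∃ i, j = i + 1 := by
      refine ⟨j - 1, ?_⟩
      by_contra hc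
      have : j = 0 := by omega
      rw [this, pow_zero] at hj
      exact hg1 (orderOf_eq_one_iff.1 hj)
    have hinv : orderOf (g ^ 2 ^ i) = 2 := by
      rw [orderOf_pow, hj, Nat.gcd_eq_right (pow_dvd_pow 2 (by omega)), pow_succ',
        Nat.mul_div_cancel _ (by positivity)]
    have hmem : g ^ 2 ^ i ∈ stabilizer T q := pow_mem hg _
    have h1 := hone ((g ^ 2 ^ i : T) : G) (g ^ 2 ^ i).2 (by rw [Subgroup.orderOf_coe, hinv]) q.1
      (congrArg Subtype.val (mem_stabilizer_iff.1 hmem))
    exact q.2 h1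
  have h := SmallSimple.card_orbit_mul_card_stabilizer (G := T) q
  rw [hst, card_bot, mul_one] at h
  rw [h]

theorem not_isSolvable (hn : Nat.card G = 5616) : ¬ IsSolvable G := fun h =>
  not_comm hn (isMulCommutative_iff.2 fun a b => (IsSimpleGroup.comm_iff_isSolvable.2 h) a b)

theorem false_of_thirteen (hn : Nat.card G = 5616) {M O R : Subgroup G} (hM : Nat.card M = 432)
    (T : Sylow 2 G) (hTM : (T : Subgroup G) ≤ M) (hTR : (T : Subgroup G) ≤ normalizer (R : Set G))
    {t : G} (ht : orderOf t = 2) (htT : t ∈ (T : Subgroup G)) (htR : t ∈ centralizer (R : Set G))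
    (hRO : R ≤ O) (hOM : O ≤ M) (hMO : M ≤ normalizer (O : Set G)) (hO : Nat.card O ∣ 9)
    (hR : Nat.card R = 3) : False := by
  classical
  have hG := not_comm hn
  haveI : Fact (Nat.Prime 13) := ⟨by norm_num⟩
  haveI : Fact (Nat.Prime 3) := ⟨Nat.prime_three⟩
  haveI : Fact (Nat.Prime 2) := ⟨Nat.prime_two⟩
  have hMtop : M ≠ ⊤ := fun h => by rw [h, card_top, hn] at hM; omega
  have hidx : M.index = 13 := by
    have h := Subgroup.card_mul_index M
    rw [hM, hn] at h
    omega
  have hX : Nat.card (G ⧸ M) = 13 := (Subgroup.index_eq_card M).symm.trans hidx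
  haveI := Fintype.ofFinite (G ⧸ M)
  have hXF : Fintype.card (G ⧸ M) = 13 := by rw [← Nat.card_eq_fintype_card, hX]
  have hinj := SmallSimple.toPermHom_injective (G := G) hMtop
  set f := MulAction.toPermHom G (G ⧸ M) with hf
  haveI : IsPretransitive f.range (G ⧸ M) := ⟨fun a b => by
    obtain ⟨g, hg⟩ := MulAction.exists_smul_eq G a b
    exact ⟨⟨f g, ⟨g, rfl⟩⟩, hg⟩⟩
  have h2 := Perm.PrimeDegree.twoTransitive_of_not_isSolvable (G := f.range) hXF fun h => by
    haveI := h
    exact not_isSolvable hn (Group.isSolvable_of_surjective (f := (MonoidHom.ofInjective hinj).symm.toMonoidHom)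
      (MonoidHom.ofInjective hinj).symm.surjective)
  set x₀ : G ⧸ M := ((1 : G) : G ⧸ M) with hx₀
  have hbase : ∀ g : G, g • x₀ = x₀ ↔ g ∈ M := fun g => by
    rw [hx₀, show g • ((1 : G) : G ⧸ M) = ((g * 1 : G) : G ⧸ M) from rfl, mul_one, QuotientGroup.eq, mul_one]
    exact inv_mem_iff
  have htrans : ∀ q q' : G ⧸ M, q ≠ x₀ → q' ≠ x₀ → ∃ m ∈ M, m • q = q' := by
    intro q q' hq hq'
    haveI := h2
    obtain ⟨⟨_, g, rfl⟩, h1, h3⟩ := MulAction.is_two_pretransitive_iff.1 h2 (Ne.symm hq) (Ne.symm hq')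
    exact ⟨g, (hbase g).1 h1, h3⟩
  have htriv : ∀ g : G, (∀ q : G ⧸ M, g • q = q) → g = 1 := fun g h =>
    hinj (by rw [map_one]; exact Equiv.ext h)
  obtain ⟨r, hrR, hr⟩ : ∃ r ∈ R, orderOf r = 3 := Below6233.exists_order hR.symm.dvd
  have hgen : zpowers r = R := eq_of_le_of_card_ge (zpowers_le.2 hrR) (by rw [hR, Nat.card_zpowers, hr])
  -- `R` fixes the base point only
  have hRfix : ∀ q : G ⧸ M, q ≠ x₀ → r • q ≠ q := by
    intro q hq hrq
    set S := stabilizer G q
    have hRS : R ≤ O ⊓ S := le_inf hRO (by rw [← hgen, zpowers_le]; exact hrq)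
    have hOS : O ⊓ S ≠ O := fun h => by
      have hle : O ≤ S := inf_eq_left.1 h
      have : r = 1 := by
        refine htriv r fun q' => ?_
        by_cases hq' : q' = x₀
        · rw [hq']; exact (hbase r).2 (hOM (hRO hrR))
        obtain ⟨m, hm, rfl⟩ := htrans q q' hq hq'
        have h' : m⁻¹ * r * m ∈ O := by
          have := (mem_normalizer_iff.1 (inv_mem (hMO hm)) r).1 (hRO hrR)
          rwa [inv_inv] at this
        have h'' : (m⁻¹ * r * m) • q = q := hle h'
        rw [← mul_smul, show r * m = m * (m⁻¹ * r * m) by group, mul_smul, h'']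
      rw [this, orderOf_one] at hr
      omega
    have heq : O ⊓ S = R := by
      refine (eq_of_le_of_card_ge hRS ?_).symm
      obtain ⟨j, hj, hjc⟩ := (Nat.dvd_prime_pow Nat.prime_three).1
        ((Subgroup.card_dvd_of_le (inf_le_left : O ⊓ S ≤ O)).trans hO : Nat.card ↥(O ⊓ S) ∣ 3 ^ 2)
      have hlt : Nat.card ↥(O ⊓ S) < Nat.card O := by
        refine lt_of_le_of_ne (Nat.le_of_dvd Nat.card_pos (Subgroup.card_dvd_of_le inf_le_left)) fun h => ?_
        exact hOS (eq_of_le_of_card_ge inf_le_left h.ge)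
      have h9 := Nat.le_of_dvd (by norm_num) hO
      rw [hR, hjc]
      interval_cases j <;> omega
    set N := normalizer (R : Set G) ⊓ M with hN
    have hMS : M ⊓ S ≤ N := by
      intro m hm
      refine ⟨?_, hm.1⟩
      show m ∈ normalizer (R : Set G)
      rw [mem_normalizer_iff]
      intro y
      have hmS : m ∈ S := hm.2
      have hOn := mem_normalizer_iff.1 (hMO hm.1) y
      have hSn : y ∈ S ↔ m * y * m⁻¹ ∈ S :=
        ⟨fun h => mul_mem (mul_mem hmS h) (inv_mem hmS), fun h => by
          have := mul_mem (mul_mem (inv_mem hmS) h) hmS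
          rwa [show m⁻¹ * (m * y * m⁻¹) * m = y by group] at this⟩
      rw [← heq, mem_inf, mem_inf, hOn, hSn]
    have hON : O ≤ N := by
      refine le_inf ?_ hOM
      refine le_trans ?_ (centralizer_le_normalizer R)
      haveI : IsMulCommutative O := by
        obtain ⟨j, hj, hjc⟩ := (Nat.dvd_prime_pow Nat.prime_three).1 (show Nat.card O ∣ 3 ^ 2 by norm_num; exact hO)
        interval_cases j
        · haveI : Subsingleton O := (Nat.card_eq_one_iff_unique.1 (hjc.trans (pow_zero 3))).1
          exact isMulCommutative_iff.2 fun a b => Subsingleton.elim _ _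
        · exact (isCyclic_of_prime_card (hjc.trans (pow_one 3))).isMulCommutative
        · exact IsPGroup.isMulCommutative_of_card_eq_prime_sq hjc
      intro a ha
      rw [mem_centralizer_iff]
      intro b hb
      exact congrArg Subtype.val (mul_comm' (⟨b, hRO hb⟩ : O) ⟨a, ha⟩)
    have hMScard : Nat.card ↥(M ⊓ S) = 36 := by
      have horb : MulAction.orbit M q = {q' : G ⧸ M | q' ≠ x₀} := by
        ext q'
        constructor
        · rintro ⟨m, rfl⟩ h
          have h' : (m : G) • q = (m : G) • x₀ := h.trans ((hbase m).2 m.2).symm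
          exact hq (smul_left_cancel _ h')
        · intro hq'
          obtain ⟨m, hm, he⟩ := htrans q q' hq hq'
          exact ⟨⟨m, hm⟩, he⟩
      have h := SmallSimple.card_orbit_mul_card_stabilizer (G := M) q
      have h12 : Nat.card ({q' : G ⧸ M | q' ≠ x₀} : Set (G ⧸ M)) = 12 := by
        show Nat.card {q' : G ⧸ M // q' ≠ x₀} = 12
        rw [Nat.card_eq_fintype_card, Fintype.card_subtype_compl, Fintype.card_subtype_eq, hXF]
      have hst : stabilizer M q = S.subgroupOf M := rfl
      rw [horb, h12, hst, hM, ← inf_subgroupOf_left, Nat.card_congr (subgroupOfEquivOfLe inf_le_left).toEquiv] at h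
      omega
    have h16 : 16 ∣ Nat.card N := by
      have h := Subgroup.card_dvd_of_le (le_inf hTR hTM : (T : Subgroup G) ≤ N)
      rwa [SmallSimple.card_sylow_subgroup (k := 4) (m := 351) (by rw [hn]; norm_num) (by norm_num) T] at h
    have h27 : 27 ∣ Nat.card N := by
      -- `O` and `M_q` together
      have hsub : O ⊔ (M ⊓ S) ≤ N := sup_le hON hMS
      have hcard : Nat.card ↥(O ⊔ (M ⊓ S)) * Nat.card ↥(O ⊓ (M ⊓ S)) = Nat.card O * Nat.card ↥(M ⊓ S) := by
        have hk : (O.subgroupOf M).Normal := (normal_subgroupOf_iff_le_normalizer hOM).2 hMO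
        have e1 := Subgroup.relIndex_mul_relIndex (⊥ : Subgroup G) O (O ⊔ (M ⊓ S)) bot_le le_sup_left
        have e2 := Subgroup.relIndex_mul_relIndex (⊥ : Subgroup G) (O ⊓ (M ⊓ S)) (M ⊓ S) bot_le inf_le_right
        have e3 : O.relIndex (O ⊔ (M ⊓ S)) = O.relIndex (M ⊓ S) := by
          haveI : (O.subgroupOf (O ⊔ (M ⊓ S))).Normal :=
            (normal_subgroupOf_iff_le_normalizer le_sup_left).2 ((sup_le hOM inf_le_left).trans hMO)
          have hsup : (O.subgroupOf (O ⊔ (M ⊓ S))) ⊔ ((M ⊓ S).subgroupOf (O ⊔ (M ⊓ S))) = ⊤ := by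
            rw [← Subgroup.subgroupOf_sup le_sup_left le_sup_right, Subgroup.subgroupOf_self]
          calc O.relIndex (O ⊔ (M ⊓ S)) = (O.subgroupOf (O ⊔ (M ⊓ S))).relIndex ⊤ :=
                (Subgroup.relIndex_top_right _).symm
            _ = (O.subgroupOf (O ⊔ (M ⊓ S))).relIndex ((M ⊓ S).subgroupOf (O ⊔ (M ⊓ S))) := by
                rw [← hsup, Subgroup.relIndex_sup_left]
            _ = O.relIndex (M ⊓ S) := Subgroup.relIndex_subgroupOf le_sup_right
        rw [Subgroup.relIndex_bot_left, Subgroup.relIndex_bot_left] at e1 e2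
        rw [inf_relIndex_right] at e2
        rw [e3] at e1
        rw [← e1, ← e2]
        ring
      have h3 : Nat.card ↥(O ⊓ (M ⊓ S)) = 3 := by
        rw [← inf_assoc, inf_eq_left.2 hOM, heq, hR]
      have h9 : Nat.card O = 3 ∨ Nat.card O = 9 := by
        obtain ⟨j, hj, hjc⟩ := (Nat.dvd_prime_pow Nat.prime_three).1 (show Nat.card O ∣ 3 ^ 2 by norm_num; exact hO)
        have := Nat.le_of_dvd Nat.card_pos (Subgroup.card_dvd_of_le hRO)
        rw [hR, hjc] at this
        interval_cases j <;> simp_all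
      rw [h3, hMScard] at hcard
      have hO9 : Nat.card O = 9 := by
        rcases h9 with h | h
        · exfalso
          exact hOS (eq_of_le_of_card_ge inf_le_left (by rw [heq, hR, h]))
        · exact h
      rw [hO9] at hcard
      have h108 : Nat.card ↥(O ⊔ (M ⊓ S)) = 108 := by omega
      exact dvd_trans (by rw [h108]; norm_num) (Subgroup.card_dvd_of_le hsub)
    have h432 : 432 ∣ Nat.card N := Nat.Coprime.mul_dvd_of_dvd_of_dvd (m := 16) (n := 27) (by norm_num) h16 h27
    have hNM : N = M := eq_of_le_of_card_ge inf_le_right (by rw [hM]; exact Nat.le_of_dvd Nat.card_pos h432)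
    have : r = 1 := by
      refine htriv r fun q' => ?_
      by_cases hq' : q' = x₀
      · rw [hq']; exact (hbase r).2 (hOM (hRO hrR))
      obtain ⟨m, hm, rfl⟩ := htrans q q' hq hq'
      have hmN : m ∈ N := hNM.symm ▸ hm
      have h' : m⁻¹ * r * m ∈ R := by
        have := (mem_normalizer_iff.1 (inv_mem hmN.1) r).1 hrR
        rwa [inv_inv] at this
      have h'' : (m⁻¹ * r * m) • q = q := (hRS h').2
      rw [← mul_smul, show r * m = m * (m⁻¹ * r * m) by group, mul_smul, h'']
    rw [this, orderOf_one] at hr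
    omega
  -- all involutions fix equally many points, hence only one
  have hcount : ∀ u : G, orderOf u = 2 → Nat.card {q : G ⧸ M // u • q = q} = Nat.card {q : G ⧸ M // t • q = q} := by
    intro u hu
    obtain ⟨g, rfl⟩ := isConj_iff.1 (isConj_of_involutions hn ht hu)
    refine Nat.card_congr (Equiv.subtypeEquiv (MulAction.toPerm g⁻¹) fun q => ?_)
    rw [MulAction.toPerm_apply, mul_smul, mul_smul]
    exact ⟨fun h => by conv_rhs => rw [← h, inv_smul_smul], fun h => by rw [h, smul_inv_smul]⟩
  have htone : Nat.card {q : G ⧸ M // t • q = q} = 1 := by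
    have hmod := Below6233.card_invariant_modEq (X := G ⧸ M) (p := 3) (x := r)
      (by rw [← hr]; exact pow_orderOf_eq_one r) {q | t • q = q} (fun q (hq : t • q = q) => by
        show t • r • q = r • q
        rw [← mul_smul, ← htR r hrR, mul_smul, hq])
    have h1 : Nat.card {q : G ⧸ M // t • q = q ∧ r • q = q} = 1 := by
      rw [Nat.card_eq_one_iff_unique]
      refine ⟨⟨fun a b => Subtype.ext ?_⟩, ⟨⟨x₀, (hbase t).2 (hTM htT), (hbase r).2 (hOM (hRO hrR))⟩⟩⟩
      have key : ∀ w : {q : G ⧸ M // t • q = q ∧ r • q = q}, w.1 = x₀ := fun w => by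
        by_contra hw
        exact hRfix _ hw w.2.2
      rw [key a, key b]
    simp only [Set.mem_ofPred_eq] at hmod
    rw [h1] at hmod
    have hne : ∃ g, toPermHom G (G ⧸ M) g ≠ 1 := SmallSimple.toPermHom_ne_one_of_index M hMtop
    have hlt := Below6233.card_fixed_lt (X := G ⧸ M) hne (z := t) (fun h => by rw [h, orderOf_one] at ht; omega)
    have h4 := SmallSimple.four_dvd_moved (X := G ⧸ M) hG hne ht
    rw [hX] at h4 hlt
    unfold Nat.ModEq at hmod
    obtain ⟨F, hF⟩ : ∃ F, Nat.card {q : G ⧸ M // t • q = q} = F := ⟨_, rfl⟩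
    rw [hF] at hmod hlt h4 ⊢
    interval_cases F <;> omega
  have h16 := card_dvd_pred (T : Subgroup G) T.isPGroup' x₀ (fun g hg => (hbase g).2 (hTM hg))
    fun u hu ho q hq => by
      have h := (hcount u ho).trans htone
      haveI := (Nat.card_eq_one_iff_unique.1 h).1
      exact congrArg Subtype.val (Subsingleton.elim (⟨q, hq⟩ : {q : G ⧸ M // u • q = q})
        ⟨x₀, (hbase u).2 (hTM hu)⟩)
  rw [hX, SmallSimple.card_sylow_subgroup (k := 4) (m := 351) (by rw [hn]; norm_num) (by norm_num) T] at h16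
  norm_num at h16

end Cfsg.Agent.Order5616
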