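import Cfsg.Agent.Lib.Order5616.Sylow
import Cfsg.Agent.S3224

/-!
# A simple group of order 5616: the shape of a Sylow 2-subgroup
-/

set_option autoImplicit false
set_option linter.style.haveILetI false
set_option linter.unusedSectionVars false

namespace Cfsg.Agent.Order5616

open Subgroup MulAction SmallSimple

universe u

variable {G : Type u} [Group G] [Finite G] [IsSimpleGroup G]

theorem center_involution_unique (hn : Nat.card G = 5616) (T : Sylow 2 G) {u v : (T : Subgroup G)}
    (hu : u ∈ center (T : Subgroup G)) (hv : v ∈ center (T : Subgroup G)) (hu2 : orderOf u = 2)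
    (hv2 : orderOf v = 2) : u = v := by
  by_contra huv
  obtain ⟨c, hcZ, hc2, hfix⟩ := TwoGroup.exists_fixed_of_two_central (card_sylow_two hn T)
    (sylow_not_comm hn T) hu hv hu2 hv2 huv
  have hC : ∀ x : (T : Subgroup G), x ∈ center (T : Subgroup G) →
      (x : G) ∈ centralizer ((T : Subgroup G) : Set G) := fun x hx y hy =>
    congrArg Subtype.val (mem_center_iff.1 hx ⟨y, hy⟩)
  have key : ∀ w : (T : Subgroup G), w ∈ center (T : Subgroup G) → orderOf w = 2 → w = c := by
    intro w hw hw2
    obtain ⟨n, hnN, he⟩ := exists_normalizer_conj hn T (u := (w : G)) (v := (c : G))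
      (by rw [Subgroup.orderOf_coe, hw2]) (by rw [Subgroup.orderOf_coe, hc2]) (hC w hw) (hC c hcZ)
    let e : (T : Subgroup G) ≃* (T : Subgroup G) :=
      { toFun := fun y => ⟨n * y * n⁻¹, (mem_normalizer_iff.1 hnN y).1 y.2⟩
        invFun := fun y => ⟨n⁻¹ * y * n, (mem_normalizer_iff.1 hnN _).2 (by simp [mul_assoc])⟩
        left_inv := fun y => Subtype.ext (show n⁻¹ * (n * y * n⁻¹) * n = (y : G) by group)
        right_inv := fun y => Subtype.ext (show n * (n⁻¹ * y * n) * n⁻¹ = (y : G) by group)
        map_mul' := fun y z => Subtype.ext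
          (show n * ((y : G) * z) * n⁻¹ = n * y * n⁻¹ * (n * z * n⁻¹) by group) }
    exact e.injective ((show e w = c from Subtype.ext he).trans (hfix e).symm)
  exact huv ((key u hu hu2).trans (key v hv hv2).symm)

/-- A non-central involution has a centraliser of order four in the Sylow subgroup. -/
theorem card_centralizer_noncentral (hn : Nat.card G = 5616) (T : Sylow 2 G) {s : (T : Subgroup G)}
    (hs : orderOf s = 2) (hsZ : s ∉ center (T : Subgroup G)) :
    Nat.card (centralizer ({s} : Set (T : Subgroup G))) = 4 := by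
  classical
  haveI : Fact (Nat.Prime 2) := ⟨Nat.prime_two⟩
  have hH := card_sylow_two hn T
  have hna := sylow_not_comm hn T
  set C := centralizer ({s} : Set (T : Subgroup G)) with hCdef
  have hsC : s ∈ C := mem_centralizer_singleton_iff.2 rfl
  have hlt : center (T : Subgroup G) < C :=
    lt_of_le_of_ne (center_le_centralizer _) fun h => hsZ (h ▸ hsC)
  have hltc : Nat.card (center (T : Subgroup G)) < Nat.card C := by
    refine lt_of_le_of_ne (card_le_of_le hlt.le) fun h => hlt.ne (eq_of_le_of_card_ge hlt.le h.ge)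
  have hC16 : Nat.card C ≠ 16 := fun h => hsZ (mem_center_iff.2 fun g => by
    have : C = ⊤ := eq_top_of_card_eq C (by rw [h, hH])
    exact mem_centralizer_singleton_iff.1 (this.ge (mem_top g)))
  obtain ⟨j, hj, hje⟩ := (Nat.dvd_prime_pow Nat.prime_two).1
    (show Nat.card C ∣ 2 ^ 4 by rw [show (2 : ℕ) ^ 4 = 16 from rfl, ← hH]; exact card_subgroup_dvd_card C)
  have hZ := TwoGroup.card_center hH hna
  by_contra hne
  have hC8 : Nat.card C = 8 := by
    rw [hje] at hC16 hne hltc ⊢
    interval_cases j <;> omega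
  have hZ4 := TwoGroup.card_center_of_half hH hna hs hsZ hC8
  -- a central element of order four
  obtain ⟨z, hzZ, hz⟩ : ∃ z ∈ center (T : Subgroup G), orderOf (z ^ 2) = 2 := by
    by_contra hc
    push Not at hc
    have hsq : ∀ z ∈ center (T : Subgroup G), z ^ 2 = 1 := by
      intro z hz
      by_contra h
      apply hc z hz
      have h4 : (⟨z, hz⟩ : center (T : Subgroup G)) ^ 4 = 1 := by rw [← hZ4]; exact pow_card_eq_one'
      refine orderOf_eq_prime ?_ h
      rw [← pow_mul]
      exact congrArg Subtype.val h4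
    have hle : Nat.card (center (T : Subgroup G)) ≤ 2 := by
      by_contra h2
      haveI : Nontrivial (center (T : Subgroup G)) := Finite.one_lt_card_iff_nontrivial.1 (by omega)
      obtain ⟨x, hx⟩ := exists_ne (1 : center (T : Subgroup G))
      have hinv : ∀ y : center (T : Subgroup G), y ≠ 1 → orderOf (y : (T : Subgroup G)) = 2 := fun y hy =>
        orderOf_eq_prime (hsq y y.2) fun h => hy (Subtype.ext h)
      have hsub : ∀ y : center (T : Subgroup G), y = 1 ∨ y = x := fun y => or_iff_not_imp_left.2 fun hy =>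
        Subtype.ext (center_involution_unique hn T y.2 x.2 (hinv y hy) (hinv x hx))
      have : Nat.card (center (T : Subgroup G)) ≤ Nat.card Bool := by
        refine Nat.card_le_card_of_injective (fun y => decide (y = 1)) fun a b h => ?_
        rcases hsub a with rfl | rfl <;> rcases hsub b with rfl | rfl <;> simp_all
      simp only [Nat.card_eq_fintype_card, Fintype.card_bool] at this h2
      omega
    omega
  set t := z ^ 2 with htdef
  have htZ : t ∈ center (T : Subgroup G) := pow_mem hzZ 2
  have hts : t ≠ s := fun h => hsZ (h ▸ htZ)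
  -- a Sylow subgroup in which `s` is central
  obtain ⟨T₁, hle, hT₁⟩ := exists_sylow_le hn (t := (s : G)) (by rw [Subgroup.orderOf_coe, hs])
    (H := C.map (T : Subgroup G).subtype) ((T.isPGroup'.to_subgroup C).map _) (by
      rintro _ ⟨y, hy, rfl⟩
      exact mem_centralizer_singleton_iff.2 (congrArg Subtype.val (mem_centralizer_singleton_iff.1 hy)))
  have hsT : (s : G) ∈ (T₁ : Subgroup G) := hle ⟨s, hsC, rfl⟩
  have hzT : (z : G) ∈ (T₁ : Subgroup G) := hle ⟨z, hlt.le hzZ, rfl⟩
  have hs1 : (⟨s, hsT⟩ : (T₁ : Subgroup G)) ∈ center (T₁ : Subgroup G) := mem_center_iff.2 fun g =>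
    Subtype.ext (mem_centralizer_singleton_iff.1 (hT₁ g.2))
  have hZ1 : Nat.card (center (T₁ : Subgroup G)) = 4 := by
    rw [← Nat.card_congr (centerCongr (T.equiv T₁)).toEquiv, hZ4]
  have hz1 := TwoGroup.sq_mem_center (card_sylow_two hn T₁) (sylow_not_comm hn T₁) hZ1 ⟨z, hzT⟩
  have h := center_involution_unique hn T₁ hz1 hs1 (by
    rw [← Subgroup.orderOf_coe, SubmonoidClass.coe_pow]
    show orderOf ((z : G) ^ 2) = 2
    rw [← SubmonoidClass.coe_pow, Subgroup.orderOf_coe]; exact hz) (by
    rw [← Subgroup.orderOf_coe]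
    show orderOf ((s : G)) = 2
    rw [Subgroup.orderOf_coe, hs])
  exact hts (Subtype.ext (congrArg Subtype.val h : (z : G) ^ 2 = s))

/-- The facts about a Sylow subgroup `T` and its central involution `t` used below. -/
theorem shape (hn : Nat.card G = 5616) (T : Sylow 2 G) {t : G} (ht : orderOf t = 2) (htT : t ∈ (T : Subgroup G))
    (htC : (T : Subgroup G) ≤ centralizer ({t} : Set G)) :
    ∃ a ∈ (T : Subgroup G), orderOf a = 8 ∧
      (∀ x ∈ (T : Subgroup G), orderOf x = 8 → x ∈ zpowers a) ∧
      (∀ x ∈ (T : Subgroup G), orderOf x = 4 → x ^ 2 = t) ∧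
      (∀ v ∈ (T : Subgroup G), orderOf v = 2 → v ≠ t → ∀ x ∈ (T : Subgroup G), x * v = v * x →
        orderOf x ≠ 4) := by
  classical
  haveI : Fact (Nat.Prime 2) := ⟨Nat.prime_two⟩
  set H := (T : Subgroup G)
  have hH := card_sylow_two hn T
  set t' : H := ⟨t, htT⟩
  have ht' : orderOf t' = 2 := by rw [← Subgroup.orderOf_coe]; exact ht
  have htZ : t' ∈ center H := mem_center_iff.2 fun g =>
    Subtype.ext (mem_centralizer_singleton_iff.1 (htC g.2))
  obtain ⟨s, hsT, hs, hst⟩ := exists_other_involution hn T t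
  set s' : H := ⟨s, hsT⟩
  have hs' : orderOf s' = 2 := by rw [← Subgroup.orderOf_coe]; exact hs
  have hsZ : s' ∉ center H := fun h =>
    hst (congrArg Subtype.val (center_involution_unique hn T h htZ hs' ht'))
  have hC4 := card_centralizer_noncentral hn T hs' hsZ
  have hZ : ∀ z ∈ center H, z = 1 ∨ z = t' := by
    have hlt : Nat.card (center H) < 4 := by
      rw [← hC4]
      refine lt_of_le_of_ne (card_le_of_le (center_le_centralizer _)) fun h => hsZ ?_
      rw [eq_of_le_of_card_ge (center_le_centralizer ({s'} : Set H)) h.ge]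
      exact mem_centralizer_singleton_iff.2 rfl
    have h2 := (TwoGroup.card_center hH (sylow_not_comm hn T)).resolve_right fun h => hlt.ne h
    intro z hz
    by_contra hc
    push Not at hc
    exact hc.2 (TwoGroup.eq_of_card_two h2 hz htZ hc.1 fun h => by rw [h, orderOf_one] at ht'; omega)
  obtain ⟨a, ha⟩ : ∃ a : H, orderOf a = 8 := by
    rcases Cfsg.Agent.S3224.result T.isPGroup' s' hs' hC4 with ⟨m, ⟨e⟩⟩ | ⟨m, hm, hc, x, y, hx, -, -⟩ | h
    · have hm : m = 8 := by
        have := Nat.card_congr e.toEquiv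
        rw [hH, DihedralGroup.nat_card] at this
        omega
      subst hm
      exact ⟨e.symm (DihedralGroup.r 1), by rw [MulEquiv.orderOf_eq, DihedralGroup.orderOf_r_one]⟩
    · refine ⟨x, ?_⟩
      rw [hH, show (16 : ℕ) = 2 ^ 4 from rfl] at hc
      have := Nat.pow_right_injective (le_refl 2) hc
      rw [hx, show m = 3 by omega]
      norm_num
    · omega
  have hidx : (zpowers a).index = 2 := by
    have h := card_mul_index (zpowers a)
    rw [Nat.card_zpowers, ha, hH] at h
    omega
  haveI := normal_of_index_eq_two hidx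
  have hout : ∀ x, x ∉ zpowers a → x ^ 2 = 1 ∨ x ^ 2 = t' := by
    intro x hx
    refine hZ _ ?_
    have htop : centralizer ({x ^ 2} : Set H) = ⊤ := by
      have hle : zpowers a ≤ centralizer ({x ^ 2} : Set H) := by
        obtain ⟨k, hk⟩ := mem_zpowers_iff.1 (hidx ▸ pow_index_mem (zpowers a) x : x ^ 2 ∈ zpowers a)
        rw [zpowers_le, mem_centralizer_singleton_iff, ← hk]
        exact Commute.self_zpow a k
      have hxc : x ∈ centralizer ({x ^ 2} : Set H) :=
        mem_centralizer_singleton_iff.2 (Commute.self_pow x 2)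
      refine eq_top_iff' _ |>.2 fun g => ?_
      by_cases hg : g ∈ zpowers a
      · exact hle hg
      · have := (mul_mem_iff_of_index_two hidx (a := g) (b := x⁻¹))
        simp only [inv_mem_iff] at this
        have hgx : g * x⁻¹ ∈ zpowers a := this.2 ⟨fun h => absurd h hg, fun h => absurd h hx⟩
        simpa using mul_mem (hle hgx) hxc
    exact mem_center_iff.2 fun g => mem_centralizer_singleton_iff.1 (htop ▸ mem_top g)
  have ha4 : a ^ 4 = t' := by
    have ho : orderOf (a ^ 4) = 2 := by rw [orderOf_pow, ha]; norm_num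
    refine (hZ _ (mem_center_iff.2 fun g => ?_)).resolve_left fun h => by rw [h, orderOf_one] at ho; omega
    have hconj := (inferInstance : (zpowers a).Normal).conj_mem _ (pow_mem (mem_zpowers a) 4) g
    obtain ⟨k, hk⟩ := (isOfFinOrder_of_finite a).mem_powers_iff_mem_zpowers.2 hconj
    have ho' : orderOf (a ^ k) = 2 := by
      have h1 : a ^ k = MulAut.conj g (a ^ 4) := by rw [MulAut.conj_apply]; exact hk
      rw [h1, MulEquiv.orderOf_eq, ho]
    have h8 : a ^ k = a ^ 4 := by
      rw [← pow_mod_orderOf, ha] at ho' ⊢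
      rw [orderOf_pow, ha] at ho'
      have hlt : k % 8 < 8 := Nat.mod_lt _ (by norm_num)
      generalize k % 8 = i at ho' hlt ⊢
      interval_cases i <;> first | rfl | exact absurd ho' (by decide)
    have := hk.symm.trans h8
    calc g * a ^ 4 = (g * a ^ 4 * g⁻¹) * g := by group
      _ = a ^ 4 * g := by rw [this]
  have hsq : ∀ x : H, orderOf x = 4 → x ^ 2 = t' := by
    intro x hx
    have ho : orderOf (x ^ 2) = 2 := by rw [orderOf_pow, hx]; norm_num
    by_cases hxA : x ∈ zpowers a
    · obtain ⟨k, rfl⟩ := (isOfFinOrder_of_finite a).mem_powers_iff_mem_zpowers.2 hxA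
      simp only at hx ho ⊢
      rw [← ha4, ← pow_mul, ← pow_mod_orderOf, ha]
      rw [orderOf_pow, ha] at hx
      have hlt : k % 8 < 8 := Nat.mod_lt _ (by norm_num)
      rw [show k * 2 % 8 = k % 8 * 2 % 8 by omega]
      rw [show Nat.gcd 8 k = Nat.gcd (k % 8) 8 from Nat.gcd_rec 8 k] at hx
      generalize k % 8 = i at hx hlt ⊢
      interval_cases i <;> first | rfl | exact absurd hx (by decide)
    · exact (hout x hxA).resolve_left fun h => by rw [h, orderOf_one] at ho; omega
  refine ⟨a, a.2, by rw [Subgroup.orderOf_coe]; exact ha, ?_, ?_, ?_⟩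
  · intro x hxT hx
    by_contra hxA
    have h' : (⟨x, hxT⟩ : H) ∉ zpowers a := fun h => hxA (by
      obtain ⟨k, hk⟩ := mem_zpowers_iff.1 h
      exact mem_zpowers_iff.2 ⟨k, congrArg Subtype.val hk⟩)
    have hx' : orderOf ((⟨x, hxT⟩ : H) ^ 2) = 4 := by
      rw [orderOf_pow, ← Subgroup.orderOf_coe, show ((⟨x, hxT⟩ : H) : G) = x from rfl, hx]; norm_num
    rcases hout _ h' with h | h <;> rw [h] at hx'
    · rw [orderOf_one] at hx'; omega
    · omega
  · intro x hxT hx
    exact congrArg Subtype.val (hsq ⟨x, hxT⟩ (by rw [← Subgroup.orderOf_coe]; exact hx))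
  · intro v hvT hv hvt x hxT hxv hx
    set v' : H := ⟨v, hvT⟩
    set x' : H := ⟨x, hxT⟩
    have hv' : orderOf v' = 2 := by rw [← Subgroup.orderOf_coe]; exact hv
    have hvZ : v' ∉ center H := fun h =>
      hvt (congrArg Subtype.val (center_involution_unique hn T h htZ hv' ht'))
    have hx' : orderOf x' = 4 := by rw [← Subgroup.orderOf_coe]; exact hx
    have hxC : x' ∈ centralizer ({v'} : Set H) := mem_centralizer_singleton_iff.2 (Subtype.ext hxv)
    have heq : zpowers x' = centralizer ({v'} : Set H) :=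
      eq_of_le_of_card_ge (zpowers_le.2 hxC)
        (by rw [card_centralizer_noncentral hn T hv' hvZ, Nat.card_zpowers, hx'])
    have hvx : v' ∈ zpowers x' := heq ▸ mem_centralizer_singleton_iff.2 rfl
    obtain ⟨k, hk⟩ := (isOfFinOrder_of_finite x').mem_powers_iff_mem_zpowers.2 hvx
    simp only at hk
    apply hvt
    have hkt : v' = t' := by
      rw [← hsq x' hx', ← hk, ← pow_mod_orderOf, hx']
      rw [← hk, orderOf_pow, hx', show Nat.gcd 4 k = Nat.gcd (k % 4) 4 from Nat.gcd_rec 4 k] at hv'
      have hlt : k % 4 < 4 := Nat.mod_lt _ (by norm_num)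
      generalize k % 4 = i at hv' hlt ⊢
      interval_cases i <;> first | rfl | exact absurd hv' (by decide)
    exact congrArg Subtype.val hkt

end Cfsg.Agent.Order5616
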