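import Mathlib.GroupTheory.PGroup
import Mathlib.GroupTheory.SpecificGroups.Cyclic
import Mathlib.GroupTheory.Commutator.Basic
import Cfsg.Agent.Lib.SmallSimple.Tools

/-!
# Non-abelian groups of order sixteen: centre and centralisers of involutions
-/

set_option autoImplicit false

namespace Cfsg.Agent.Order5616.TwoGroup

open Subgroup

variable {H : Type*} [Group H] [Finite H]

theorem isPGroup_of_card (hH : Nat.card H = 16) : IsPGroup 2 H :=
  IsPGroup.of_card (n := 4) (by rw [hH]; norm_num)

theorem index_center_ne (hna : ¬ IsMulCommutative H) : (center H).index ≠ 1 ∧ (center H).index ≠ 2 := by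
  have hcyc : ∀ h : IsCyclic (H ⧸ center H), False := fun h =>
    hna (isMulCommutative_iff.2 fun a b =>
      commutative_of_cyclic_center_quotient (QuotientGroup.mk' (center H)) (by rw [QuotientGroup.ker_mk']) a b)
  constructor <;> intro h <;> rw [index_eq_card] at h
  · haveI : Subsingleton (H ⧸ center H) := (Nat.card_eq_one_iff_unique.1 h).1
    exact hcyc inferInstance
  · haveI : Fact (Nat.Prime 2) := ⟨Nat.prime_two⟩
    exact hcyc (isCyclic_of_prime_card h)

theorem card_center (hH : Nat.card H = 16) (hna : ¬ IsMulCommutative H) :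
    Nat.card (center H) = 2 ∨ Nat.card (center H) = 4 := by
  haveI : Fact (Nat.Prime 2) := ⟨Nat.prime_two⟩
  obtain ⟨h1, h2⟩ := index_center_ne hna
  haveI : Nontrivial H := Finite.one_lt_card_iff_nontrivial.1 (by omega)
  have hnt : 1 < Nat.card (center H) :=
    Finite.one_lt_card_iff_nontrivial.2 (isPGroup_of_card hH).center_nontrivial
  have hm := card_mul_index (center H)
  rw [hH] at hm
  obtain ⟨j, hj, hje⟩ := (Nat.dvd_prime_pow Nat.prime_two).1
    (show Nat.card (center H) ∣ 2 ^ 4 by rw [show (2 : ℕ) ^ 4 = 16 by norm_num, ← hH]; exact card_subgroup_dvd_card _)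
  rw [hje] at hm hnt
  interval_cases j <;> omega

/-- With centre of order four the squares are central. -/
theorem sq_mem_center (hH : Nat.card H = 16) (hna : ¬ IsMulCommutative H) (hZ : Nat.card (center H) = 4)
    (x : H) : x ^ 2 ∈ center H := by
  have hi : Nat.card (H ⧸ center H) = 4 := by
    have h := card_mul_index (center H)
    rw [hZ, hH, index_eq_card] at h
    omega
  have hd : orderOf (x : H ⧸ center H) ∣ 4 := hi ▸ orderOf_dvd_natCard _
  obtain ⟨j, hj, hje⟩ := (Nat.dvd_prime_pow Nat.prime_two).1 (show orderOf (x : H ⧸ center H) ∣ 2 ^ 2 from hd)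
  rw [← QuotientGroup.eq_one_iff, QuotientGroup.mk_pow, ← orderOf_dvd_iff_pow_eq_one, hje]
  interval_cases j
  · exact one_dvd 2
  · exact dvd_rfl
  · exfalso
    refine hna (isMulCommutative_iff.2 fun a b => ?_)
    haveI : IsCyclic (H ⧸ center H) := isCyclic_of_orderOf_eq_card (x : H ⧸ center H) (by rw [hje, hi]; norm_num)
    exact commutative_of_cyclic_center_quotient (QuotientGroup.mk' (center H)) (by rw [QuotientGroup.ker_mk']) a b

/-- A group of order two has one involution. -/
theorem eq_of_card_two {K : Subgroup H} (hK : Nat.card K = 2) {u v : H} (hu : u ∈ K) (hv : v ∈ K)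
    (hu1 : u ≠ 1) (hv1 : v ≠ 1) : u = v := by
  obtain ⟨a, b, hab, huniv⟩ := Nat.card_eq_two_iff.1 hK
  have hall : ∀ y : K, y = a ∨ y = b := fun y => by
    have : y ∈ ({a, b} : Set K) := huniv ▸ Set.mem_univ y
    simpa using this
  have h1 := hall ⟨u, hu⟩
  have h2 := hall ⟨v, hv⟩
  have h3 := hall 1
  by_contra hne
  have e1 : (⟨u, hu⟩ : K) ≠ 1 := fun h => hu1 (congrArg Subtype.val h)
  have e2 : (⟨v, hv⟩ : K) ≠ 1 := fun h => hv1 (congrArg Subtype.val h)
  have e3 : (⟨u, hu⟩ : K) ≠ ⟨v, hv⟩ := fun h => hne (congrArg Subtype.val h)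
  rcases h1 with h1 | h1 <;> rcases h2 with h2 | h2 <;> rcases h3 with h3 | h3 <;>
    first | exact e3 (h1.trans h2.symm) | exact e1 (h1.trans h3.symm) | exact e2 (h2.trans h3.symm)

/-- Two central involutions force a central involution fixed by every automorphism. -/
theorem exists_fixed_of_two_central (hH : Nat.card H = 16) (hna : ¬ IsMulCommutative H) {u v : H}
    (hu : u ∈ center H) (hv : v ∈ center H) (hu2 : orderOf u = 2) (hv2 : orderOf v = 2) (huv : u ≠ v) :
    ∃ c ∈ center H, orderOf c = 2 ∧ ∀ e : H ≃* H, e c = c := by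
  classical
  have hu1 : u ≠ 1 := fun h => by rw [h, orderOf_one] at hu2; omega
  have hv1 : v ≠ 1 := fun h => by rw [h, orderOf_one] at hv2; omega
  have hZ : Nat.card (center H) = 4 := (card_center hH hna).resolve_left fun h =>
    huv (eq_of_card_two h hu hv hu1 hv1)
  obtain ⟨a, b, hab⟩ : ∃ a b : H, a * b ≠ b * a := by
    by_contra hc
    push Not at hc
    exact hna (isMulCommutative_iff.2 hc)
  have hclos : ∀ (K : Subgroup H), a ∈ K → b ∈ K → center H ≤ K → K = ⊤ := by
    intro K ha hb hZK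
    apply eq_top_of_card_eq
    have hA : center H < center H ⊔ zpowers a := by
      refine lt_of_le_of_ne le_sup_left fun h => hab ?_
      have : a ∈ center H := h ▸ mem_sup_right (mem_zpowers a)
      exact (mem_center_iff.1 this b).symm
    have hAK : center H ⊔ zpowers a < K := by
      refine lt_of_le_of_ne (sup_le hZK (zpowers_le.2 ha)) fun h => hab ?_
      have hc : center H ⊔ zpowers a ≤ centralizer ({a} : Set H) :=
        sup_le (center_le_centralizer _) (zpowers_le.2 (mem_centralizer_singleton_iff.2 rfl))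
      exact (mem_centralizer_singleton_iff.1 (hc (h ▸ hb))).symm
    have hdvd : ∀ L : Subgroup H, Nat.card L ∣ 2 ^ 4 := fun L => by
      rw [show (2 : ℕ) ^ 4 = 16 by norm_num, ← hH]; exact card_subgroup_dvd_card _
    have hlt : ∀ {L M : Subgroup H}, L < M → Nat.card L < Nat.card M := fun {L M} h =>
      lt_of_le_of_ne (Nat.le_of_dvd Nat.card_pos (card_dvd_of_le h.le))
        fun he => h.ne (eq_of_le_of_card_ge h.le he.ge)
    obtain ⟨i, hi, hie⟩ := (Nat.dvd_prime_pow Nat.prime_two).1 (hdvd (center H ⊔ zpowers a))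
    obtain ⟨j, hj, hje⟩ := (Nat.dvd_prime_pow Nat.prime_two).1 (hdvd K)
    have h1 := hlt hA
    have h2 := hlt hAK
    rw [hZ, hie] at h1
    rw [hie, hje] at h2
    rw [hH, hje]
    interval_cases i <;> interval_cases j <;> omega
  set c := a * b * a⁻¹ * b⁻¹ with hc
  have hc1 : c ≠ 1 := fun h => hab (by
    have := congrArg (fun g => g * (b * a)) h
    simpa [hc, mul_assoc] using this)
  have hquot : ∀ x y : H ⧸ center H, x * y = y * x := by
    intro x y
    obtain ⟨x, rfl⟩ := QuotientGroup.mk_surjective x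
    obtain ⟨y, rfl⟩ := QuotientGroup.mk_surjective y
    have hxy := (QuotientGroup.eq_one_iff _).2 (sq_mem_center hH hna hZ (x * y))
    have hx := (QuotientGroup.eq_one_iff _).2 (sq_mem_center hH hna hZ x)
    have hy := (QuotientGroup.eq_one_iff _).2 (sq_mem_center hH hna hZ y)
    rw [QuotientGroup.mk_pow, pow_two] at hxy hx hy
    rw [QuotientGroup.mk_mul] at hxy
    calc (x : H ⧸ center H) * y = ((x : H ⧸ center H) * y)⁻¹ := (inv_eq_of_mul_eq_one_right hxy).symm
      _ = (y : H ⧸ center H)⁻¹ * (x : H ⧸ center H)⁻¹ := mul_inv_rev _ _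
      _ = y * x := by rw [inv_eq_of_mul_eq_one_right hx, inv_eq_of_mul_eq_one_right hy]
  have hcZ : c ∈ center H := by
    rw [← QuotientGroup.eq_one_iff, hc]
    simp only [QuotientGroup.mk_mul, QuotientGroup.mk_inv]
    rw [hquot (a : H ⧸ center H) b, mul_inv_cancel_right, mul_inv_cancel]
  have hc2 : c * c = 1 := by
    have ha2 := mem_center_iff.1 (sq_mem_center hH hna hZ a) b
    have hcomm := mem_center_iff.1 hcZ a
    calc c * c = c * (a * b * a⁻¹ * b⁻¹) := by rw [← hc]
      _ = (c * a) * b * a⁻¹ * b⁻¹ := by group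
      _ = (a * c) * b * a⁻¹ * b⁻¹ := by rw [hcomm]
      _ = a * (a * b * a⁻¹ * b⁻¹) * b * a⁻¹ * b⁻¹ := by rw [← hc]
      _ = (a ^ 2 * b) * (a ^ 2)⁻¹ * b⁻¹ := by rw [pow_two]; group
      _ = 1 := by rw [← ha2]; group
  -- modulo `⟨c⟩` the group is abelian
  haveI hn : (zpowers c).Normal := by
    refine ⟨fun x hx g => ?_⟩
    have hxZ : x ∈ center H := zpowers_le.2 hcZ hx
    rwa [mem_center_iff.1 hxZ g, mul_inv_cancel_right]
  set q := QuotientGroup.mk' (zpowers c)
  have hqab : q a * q b = q b * q a := by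
    rw [← map_mul, ← map_mul, QuotientGroup.mk'_eq_mk']
    refine ⟨(b * a)⁻¹ * c⁻¹ * (b * a), ?_, by simp [hc, mul_assoc]⟩
    have h := hn.conj_mem c⁻¹ (inv_mem (mem_zpowers c)) (b * a)⁻¹
    simpa using h
  have hqZ : ∀ z ∈ center H, ∀ g, q z * q g = q g * q z := fun z hz g => by
    rw [← map_mul, ← map_mul, mem_center_iff.1 hz g]
  have hall : ∀ x y, q x * q y = q y * q x := by
    have hmem : ∀ g, (∀ h ∈ ({a, b} : Set H), q g * q h = q h * q g) → (centralizer ({q g} : Set _)).comap q = ⊤ :=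
      fun g hg => hclos _ (mem_comap.2 (mem_centralizer_singleton_iff.2 (hg a (by simp)).symm))
        (mem_comap.2 (mem_centralizer_singleton_iff.2 (hg b (by simp)).symm))
        fun z hz => mem_comap.2 (mem_centralizer_singleton_iff.2 (hqZ z hz g))
    have hA := hmem a (fun h hh => by rcases hh with rfl | rfl; exacts [rfl, hqab])
    have hB := hmem b (fun h hh => by rcases hh with rfl | rfl; exacts [hqab.symm, rfl])
    intro x y
    have hx := hmem x fun h hh => by
      rcases hh with rfl | rfl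
      · exact mem_centralizer_singleton_iff.1 (mem_comap.1 (hA.ge (mem_top x)))
      · exact mem_centralizer_singleton_iff.1 (mem_comap.1 (hB.ge (mem_top x)))
    exact (mem_centralizer_singleton_iff.1 (mem_comap.1 (hx.ge (mem_top y)))).symm
  have hco : orderOf c = 2 := orderOf_eq_prime (by rw [pow_two, hc2]) hc1
  refine ⟨c, hcZ, hco, fun e => ?_⟩
  have hne : e c ≠ 1 := fun h => hc1 (e.injective (h.trans (map_one e).symm))
  have hec : e c = e a * e b * (e a)⁻¹ * (e b)⁻¹ := by
    simp only [hc, map_mul, map_inv]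
  have hmem : e c ∈ zpowers c := by
    rw [← QuotientGroup.eq_one_iff]
    show q (e c) = 1
    rw [hec, map_mul, map_mul, map_mul, map_inv, map_inv,
      hall (e a) (e b), mul_inv_cancel_right, mul_inv_cancel]
  exact eq_of_card_two (by rw [Nat.card_zpowers, hco]) hmem (mem_zpowers c) hne hc1

/-- A non-central involution centralised by half of the group needs a centre of order four. -/
theorem card_center_of_half (hH : Nat.card H = 16) (hna : ¬ IsMulCommutative H) {s : H} (hs : orderOf s = 2)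
    (hsZ : s ∉ center H) (hA : Nat.card (centralizer ({s} : Set H)) = 8) : Nat.card (center H) = 4 := by
  classical
  refine (card_center hH hna).resolve_left fun hZ => ?_
  haveI : Fact (Nat.Prime 2) := ⟨Nat.prime_two⟩
  set A := centralizer ({s} : Set H)
  have hsA : s ∈ A := mem_centralizer_singleton_iff.2 rfl
  have hs1 : s ≠ 1 := fun h => by rw [h, orderOf_one] at hs; omega
  obtain ⟨⟨t, htZ⟩, ht⟩ := exists_prime_orderOf_dvd_card' (G := center H) 2 (by rw [hZ])
  rw [← Subgroup.orderOf_coe] at ht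
  change orderOf t = 2 at ht
  have ht1 : t ≠ 1 := fun h => by rw [h, orderOf_one] at ht; omega
  have htA : t ∈ A := center_le_centralizer _ htZ
  have hts : t ≠ s := fun h => hsZ (h ▸ htZ)
  -- `A` is abelian
  have hAab : ∀ x ∈ A, ∀ y ∈ A, x * y = y * x := by
    have hsc : (⟨s, hsA⟩ : A) ∈ center A :=
      mem_center_iff.2 fun g => Subtype.ext (mem_centralizer_singleton_iff.1 g.2)
    have htc : (⟨t, htA⟩ : A) ∈ center A := mem_center_iff.2 fun g => Subtype.ext (mem_center_iff.1 htZ g)
    have hne2 : Nat.card (center A) ≠ 2 := fun h => hts (congrArg Subtype.val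
      (eq_of_card_two h htc hsc (fun e => ht1 (congrArg Subtype.val e)) fun e => hs1 (congrArg Subtype.val e)))
    have hne1 : Nat.card (center A) ≠ 1 := fun h => by
      haveI := (Nat.card_eq_one_iff_unique.1 h).1
      exact hts (congrArg Subtype.val (congrArg Subtype.val
        (Subsingleton.elim (⟨⟨t, htA⟩, htc⟩ : center A) ⟨⟨s, hsA⟩, hsc⟩)))
    obtain ⟨j, hj, hje⟩ := (Nat.dvd_prime_pow Nat.prime_two).1
      (show Nat.card (center A) ∣ 2 ^ 3 by rw [show (2 : ℕ) ^ 3 = 8 by norm_num, ← hA]; exact card_subgroup_dvd_card _)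
    have hidx := card_mul_index (center A)
    rw [hA, hje] at hidx
    have hcyc : IsCyclic (A ⧸ center A) := by
      interval_cases j
      · omega
      · omega
      · exact isCyclic_of_prime_card (p := 2) (by rw [← index_eq_card]; omega)
      · haveI : Subsingleton (A ⧸ center A) :=
          (Nat.card_eq_one_iff_unique.1 (by rw [← index_eq_card]; omega)).1
        infer_instance
    intro x hx y hy
    exact congrArg Subtype.val (commutative_of_cyclic_center_quotient (QuotientGroup.mk' (center A))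
      (by rw [QuotientGroup.ker_mk']) (⟨x, hx⟩ : A) ⟨y, hy⟩)
  have hidx : A.index = 2 := by
    have h := card_mul_index A
    rw [hA, hH] at h
    omega
  haveI hAn : A.Normal := normal_of_index_eq_two hidx
  obtain ⟨w, hw⟩ : ∃ w, w ∉ A := by
    by_contra hc
    push Not at hc
    rw [(eq_top_iff' A).2 hc, index_top] at hidx
    omega
  have hw2 : w ^ 2 ∈ A := hidx ▸ pow_index_mem A w
  have hZ' : ∀ x ∈ A, w * x * w⁻¹ = x → x ∈ center H := by
    intro x hx hwx
    rw [mem_center_iff]
    intro g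
    by_cases hg : g ∈ A
    · exact hAab g hg x hx
    · have hgw : g * w⁻¹ ∈ A := by
        have := (mul_mem_iff_of_index_two hidx (a := g) (b := w⁻¹))
        simp only [inv_mem_iff] at this
        exact this.2 ⟨fun h => absurd h hg, fun h => absurd h hw⟩
      calc g * x = (g * w⁻¹) * (w * x * w⁻¹) * w := by group
        _ = (g * w⁻¹) * x * w := by rw [hwx]
        _ = x * g := by rw [hAab _ hgw x hx]; group
  have hwA : ∀ x ∈ A, w * x * w⁻¹ ∈ A := fun x hx => hAn.conj_mem x hx w
  let φ : A →* A :=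
    { toFun := fun a => ⟨(a : H)⁻¹ * (w * a * w⁻¹), mul_mem (inv_mem a.2) (hwA a a.2)⟩
      map_one' := Subtype.ext (by simp)
      map_mul' := fun a b => Subtype.ext (by
        show ((a : H) * b)⁻¹ * (w * (a * b) * w⁻¹) = ((a : H)⁻¹ * (w * a * w⁻¹)) * ((b : H)⁻¹ * (w * b * w⁻¹))
        calc ((a : H) * b)⁻¹ * (w * (a * b) * w⁻¹)
            = (b : H)⁻¹ * ((a : H)⁻¹ * (w * a * w⁻¹)) * (w * b * w⁻¹) := by group
          _ = ((a : H)⁻¹ * (w * a * w⁻¹)) * (b : H)⁻¹ * (w * b * w⁻¹) := by
              rw [hAab _ (inv_mem b.2) _ (mul_mem (inv_mem a.2) (hwA a a.2))]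
          _ = _ := by group) }
  have hker : Nat.card φ.ker ≤ 2 := by
    rw [← hZ]
    refine Nat.card_le_card_of_injective (fun a => ⟨((a.1 : A) : H), hZ' _ a.1.2 ?_⟩) ?_
    · have h : ((a.1 : A) : H)⁻¹ * (w * a.1 * w⁻¹) = 1 := congrArg Subtype.val (MonoidHom.mem_ker.1 a.2)
      exact (inv_mul_eq_one.1 h).symm
    · intro a b h
      exact Subtype.ext (Subtype.ext (congrArg (fun z : center H => (z : H)) h))
  have hrange : 4 ≤ Nat.card φ.range := by
    have h := card_mul_index φ.ker
    rw [index_ker, hA] at h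
    nlinarith [Nat.card_pos (α := φ.ker)]
  obtain ⟨a, hi⟩ : ∃ a : A, (φ a : H) ∉ center H := by
    by_contra hc
    push Not at hc
    have : Nat.card φ.range ≤ 2 := by
      rw [← hZ]
      refine Nat.card_le_card_of_injective (fun x => ⟨((x.1 : A) : H), ?_⟩) ?_
      · obtain ⟨y, hy⟩ := x.2
        rw [← hy]; exact hc y
      · intro x y h
        exact Subtype.ext (Subtype.ext (congrArg (fun z : center H => (z : H)) h))
    omega
  set i : H := (φ a : H) with hidef
  have hiA : i ∈ A := (φ a).2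
  have hival : i = (a : H)⁻¹ * (w * a * w⁻¹) := rfl
  have hwi : w * i * w⁻¹ = i⁻¹ := by
    rw [hival]
    calc w * ((a : H)⁻¹ * (w * a * w⁻¹)) * w⁻¹ = (w * a * w⁻¹)⁻¹ * (w ^ 2 * a * (w ^ 2)⁻¹) := by
          rw [pow_two]; group
      _ = (w * a * w⁻¹)⁻¹ * a := by rw [hAab _ hw2 _ a.2, mul_inv_cancel_right]
      _ = _ := by group
  have hi2 : i ^ 2 ≠ 1 := fun h => by
    apply hi
    apply hZ' i hiA
    rw [hwi]
    exact inv_eq_of_mul_eq_one_right (by rw [← pow_two, h])
  have hψ : (a : H) ^ 2 * i ∈ center H := by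
    have e : (a : H) ^ 2 * i = a * (w * a * w⁻¹) := by rw [hival, pow_two]; group
    rw [e]
    refine hZ' _ (mul_mem a.2 (hwA a a.2)) ?_
    calc w * ((a : H) * (w * a * w⁻¹)) * w⁻¹ = (w * a * w⁻¹) * (w ^ 2 * a * (w ^ 2)⁻¹) := by rw [pow_two]; group
      _ = (w * a * w⁻¹) * a := by rw [hAab _ hw2 _ a.2, mul_inv_cancel_right]
      _ = a * (w * a * w⁻¹) := hAab _ (hwA a a.2) _ a.2
  have hψ2 : ((a : H) ^ 2 * i) ^ 2 = 1 := by
    have h := pow_card_eq_one' (G := center H) (x := ⟨_, hψ⟩)
    rw [hZ] at h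
    exact congrArg Subtype.val h
  have ha4 : (a : H) ^ 4 ≠ 1 := by
    intro h
    rw [(show Commute ((a : H) ^ 2) i from hAab _ (pow_mem a.2 2) _ hiA).mul_pow, ← pow_mul,
      show 2 * 2 = 4 from rfl, h, one_mul] at hψ2
    exact hi2 hψ2
  have hord : orderOf (a : H) = 8 := by
    have hd : orderOf (a : H) ∣ 2 ^ 3 := by
      rw [show (2 : ℕ) ^ 3 = 8 by norm_num, ← hA]
      exact orderOf_dvd_natCard _ a.2
    obtain ⟨j, hj, hje⟩ := (Nat.dvd_prime_pow Nat.prime_two).1 hd
    rw [hje]
    interval_cases j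
    all_goals first
      | rfl
      | (exfalso; apply ha4; rw [← orderOf_dvd_iff_pow_eq_one, hje]; norm_num)
  have hAeq : zpowers (a : H) = A :=
    eq_of_le_of_card_ge (zpowers_le.2 a.2) (by rw [Nat.card_zpowers, hord, hA])
  have huniq : ∀ u ∈ A, orderOf u = 2 → u = (a : H) ^ 4 := by
    intro u hu hu2
    rw [← hAeq] at hu
    obtain ⟨n, hn⟩ := (Submonoid.mem_powers_iff _ _).1
      ((isOfFinOrder_of_finite (a : H)).mem_powers_iff_mem_zpowers.2 hu)
    subst hn
    rw [← pow_mod_orderOf, hord] at hu2 ⊢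
    have hlt : n % 8 < 8 := Nat.mod_lt _ (by norm_num)
    rw [orderOf_pow, hord] at hu2
    generalize n % 8 = k at hu2 hlt ⊢
    interval_cases k <;> first | rfl | exact absurd hu2 (by decide)
  exact hts ((huniq t htA ht).trans (huniq s hsA hs).symm)

end Cfsg.Agent.Order5616.TwoGroup
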