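import Cfsg.Agent.Lib.Order5616.Fixed
import Cfsg.Agent.Lib.Order5616.TwoGroup
import Cfsg.Agent.Lib.SmallSimple.Below6233.TwoPart
import Cfsg.Agent.Lib.Transfer.Fusion
import Cfsg.Agent.S0201
import Mathlib.GroupTheory.SpecificGroups.Quaternion

/-!
# A simple group of order 5616: the Sylow 2-subgroups are not abelian and have two classes of involutions
-/

set_option autoImplicit false
set_option linter.style.haveILetI false
set_option linter.unusedSectionVars false

namespace Cfsg.Agent.Order5616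

open Subgroup MulAction SmallSimple

universe u

variable {G : Type u} [Group G] [Finite G] [IsSimpleGroup G]

theorem card_sylow_two (hn : Nat.card G = 5616) (T : Sylow 2 G) : Nat.card (T : Subgroup G) = 16 := by
  haveI : Fact (Nat.Prime 2) := ⟨Nat.prime_two⟩
  have h := card_sylow_subgroup (p := 2) (k := 4) (m := 351) (by rw [hn]; norm_num) (by norm_num) T
  norm_num at h
  exact h

/-- A 2-subgroup centralising an involution lies in a Sylow subgroup centralising it. -/
theorem exists_sylow_le (hn : Nat.card G = 5616) {t : G} (ht : orderOf t = 2) {H : Subgroup G}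
    (hH : IsPGroup 2 H) (hHC : H ≤ centralizer ({t} : Set G)) :
    ∃ T : Sylow 2 G, H ≤ (T : Subgroup G) ∧ (T : Subgroup G) ≤ centralizer ({t} : Set G) := by
  haveI : Fact (Nat.Prime 2) := ⟨Nat.prime_two⟩
  set C := centralizer ({t} : Set G)
  have hH' : IsPGroup 2 (H.subgroupOf C) :=
    hH.of_equiv (subgroupOfEquivOfLe hHC).symm
  obtain ⟨S, hS⟩ := hH'.exists_le_sylow
  have hScard : Nat.card (S : Subgroup C) = 16 := by
    have h := card_sylow_subgroup (p := 2) (k := 4) (m := 3) (by rw [card_centralizer hn ht]; norm_num)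
      (by norm_num) S
    norm_num at h
    exact h
  have hmap : Nat.card ((S : Subgroup C).map C.subtype) = 16 := by
    rw [card_map_of_injective Subtype.coe_injective, hScard]
  obtain ⟨T, hT⟩ := (S.isPGroup'.map C.subtype).exists_le_sylow
  have hTeq : (S : Subgroup C).map C.subtype = T :=
    eq_of_le_of_card_ge hT (by rw [hmap, card_sylow_two hn T])
  refine ⟨T, fun x hx => hTeq ▸ ⟨⟨x, hHC hx⟩, hS (mem_subgroupOf.2 hx), rfl⟩, fun x hx => ?_⟩
  rw [← hTeq] at hx
  obtain ⟨y, -, rfl⟩ := hx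
  exact y.2

/-- Involutions centralising a Sylow subgroup are conjugate in its normaliser. -/
theorem exists_normalizer_conj (hn : Nat.card G = 5616) (T : Sylow 2 G) {u v : G} (hu : orderOf u = 2)
    (hv : orderOf v = 2) (huC : u ∈ centralizer ((T : Subgroup G) : Set G))
    (hvC : v ∈ centralizer ((T : Subgroup G) : Set G)) :
    ∃ n ∈ normalizer ((T : Subgroup G) : Set G), n * u * n⁻¹ = v := by
  haveI : Fact (Nat.Prime 2) := ⟨Nat.prime_two⟩
  obtain ⟨g, hg⟩ := isConj_iff.1 (isConj_of_involutions hn hu hv)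
  obtain ⟨n, hnN, he⟩ := Transfer.exists_sylow_normalizer_conj_eq T {u} g (by simpa using huC)
    (by simpa [hg] using hvC)
  exact ⟨n, hnN, (he u rfl).trans hg⟩

/-- A Sylow 2-subgroup has more than one involution. -/
theorem exists_other_involution (hn : Nat.card G = 5616) (T : Sylow 2 G) (t : G) :
    ∃ u ∈ (T : Subgroup G), orderOf u = 2 ∧ u ≠ t := by
  classical
  haveI : Fact (Nat.Prime 2) := ⟨Nat.prime_two⟩
  by_contra hc
  push Not at hc
  have huniq : ∀ H K : Subgroup (T : Subgroup G), Nat.card H = 2 → Nat.card K = 2 → H = K := by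
    have hkey : ∀ H : Subgroup (T : Subgroup G), Nat.card H = 2 → ∀ x ∈ H, x ≠ 1 → (x : G) = t := by
      intro H hH x hx hx1
      refine hc x x.2 ?_
      rw [Subgroup.orderOf_coe]
      exact ((Nat.dvd_prime Nat.prime_two).1 ((orderOf_dvd_natCard H hx).trans hH.dvd)).resolve_left
        fun h => hx1 (orderOf_eq_one_iff.1 h)
    intro H K hH hK
    refine eq_of_le_of_card_ge (fun x hx => ?_) (by omega)
    by_cases hx1 : x = 1
    · rw [hx1]; exact one_mem K
    haveI : Nontrivial K := Finite.one_lt_card_iff_nontrivial.1 (by omega)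
    obtain ⟨⟨y, hy⟩, hy1⟩ := exists_ne (1 : K)
    have hy1' : y ≠ 1 := fun h => hy1 (Subtype.ext h)
    rwa [show x = y from Subtype.ext ((hkey H hH x hx hx1).trans (hkey K hK y hy hy1').symm)]
  rcases PGroup.cyclic_or_quaternion_of_unique T.isPGroup' huniq with hcyc | ⟨-, m, hm, hcard, ⟨e⟩⟩
  · obtain ⟨K, hK, hc2⟩ := Below6233.exists_normal_complement_two T hcyc (by rw [hn]; norm_num)
    have hKcard := hc2.card_mul
    rw [card_sylow_two hn T, hn] at hKcard
    rcases hK.eq_bot_or_eq_top with rfl | rfl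
    · rw [card_bot] at hKcard; omega
    · rw [card_top, hn] at hKcard; omega
  · have hm2 : m = 2 := by
      rw [card_sylow_two hn T, show (16 : ℕ) = 2 ^ 4 from rfl] at hcard
      have := Nat.pow_right_injective (le_refl 2) hcard
      omega
    subst hm2
    have hZ := Cfsg.Agent.S0201.result T 1 e (fun N hN hodd => (hN.eq_bot_or_eq_top).resolve_right fun h => by
        rw [h, card_top, hn] at hodd; exact absurd hodd (by decide))
    rcases (inferInstance : (center G).Normal).eq_bot_or_eq_top with h | h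
    · rw [h, card_bot] at hZ; omega
    · rw [h, card_top, hn] at hZ; omega

/-- Two Sylow subgroups in a group of order 48: the squares of one lie in the other. -/
theorem sq_mem_of_le {C T S : Subgroup G} (hC : Nat.card C = 48) (hT : Nat.card T = 16) (hS : Nat.card S = 16)
    (hTC : T ≤ C) (hSC : S ≤ C) : S.relIndex T ≤ 2 ∧ ∀ x ∈ T, x ^ 2 ∈ S := by
  have h3 : S.relIndex C = 3 := by
    have h := card_mul_index (S.subgroupOf C)
    rw [Nat.card_congr (subgroupOfEquivOfLe hSC).toEquiv, hS, hC] at h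
    show (S.subgroupOf C).index = 3
    omega
  have hle : S.relIndex T ≤ 3 := h3 ▸ relIndex_le_of_le_right hTC (by rw [h3]; norm_num)
  have hdvd : S.relIndex T ∣ 2 ^ 4 := by
    rw [show (2 : ℕ) ^ 4 = 16 from rfl, ← hT]; exact relIndex_dvd_card S T
  obtain ⟨j, -, hj⟩ := (Nat.dvd_prime_pow Nat.prime_two).1 hdvd
  have h2 : S.relIndex T ≤ 2 := by
    rw [hj] at hle ⊢
    rcases j with _ | _ | j
    · norm_num
    · norm_num
    · exfalso
      rw [pow_succ, pow_succ] at hle
      have := Nat.one_le_two_pow (n := j)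
      omega
  refine ⟨h2, fun x hx => ?_⟩
  have hidx : (S.subgroupOf T).index = 1 ∨ (S.subgroupOf T).index = 2 := by
    have h0 : (S.subgroupOf T).index ≠ 0 := FiniteIndex.index_ne_zero
    have : (S.subgroupOf T).index ≤ 2 := h2
    omega
  rcases hidx with h | h
  · have := index_eq_one.1 h
    have hm : (⟨x, hx⟩ : T) ^ 2 ∈ S.subgroupOf T := this ▸ mem_top _
    exact hm
  · haveI := normal_of_index_eq_two h
    exact (h ▸ pow_index_mem (S.subgroupOf T) ⟨x, hx⟩ :)

/-- The Sylow 2-subgroups are not abelian. -/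
theorem sylow_not_comm (hn : Nat.card G = 5616) (T : Sylow 2 G) : ¬ IsMulCommutative (T : Subgroup G) := by
  classical
  haveI : Fact (Nat.Prime 2) := ⟨Nat.prime_two⟩
  intro hab
  have hcomm : ∀ (S : Sylow 2 G), ∀ x ∈ (S : Subgroup G), ∀ y ∈ (S : Subgroup G), x * y = y * x := by
    intro S x hx y hy
    set e := S.equiv T
    have h := hab.is_comm.comm (e ⟨x, hx⟩) (e ⟨y, hy⟩)
    rw [← map_mul, ← map_mul] at h
    exact congrArg Subtype.val (e.injective h)
  let Ω : Sylow 2 G → Subgroup G := fun S =>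
    { carrier := {x | x ∈ (S : Subgroup G) ∧ x * x = 1}
      one_mem' := ⟨one_mem _, one_mul 1⟩
      mul_mem' := fun {x y} hx hy => ⟨mul_mem hx.1 hy.1, by
        calc x * y * (x * y) = x * (y * x) * y := by group
          _ = x * (x * y) * y := by rw [hcomm S x hx.1 y hy.1]
          _ = (x * x) * (y * y) := by group
          _ = 1 := by rw [hx.2, hy.2, one_mul]⟩
      inv_mem' := fun {x} hx => ⟨inv_mem hx.1, by rw [← mul_inv_rev, hx.2, inv_one]⟩ }
  have hΩle : ∀ S, Ω S ≤ (S : Subgroup G) := fun S x hx => hx.1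
  have hinv : ∀ S x, x ∈ Ω S → x ≠ 1 → orderOf x = 2 := fun S x hx hx1 =>
    orderOf_eq_prime (by rw [pow_two]; exact hx.2) hx1
  have hmemΩ : ∀ (S : Sylow 2 G) (x : G), x ∈ (S : Subgroup G) → orderOf x = 2 → x ∈ Ω S := fun S x hx h2 =>
    ⟨hx, by rw [← pow_two, ← h2, pow_orderOf_eq_one]⟩
  have hcen : ∀ (S : Sylow 2 G) (x : G), x ∈ (S : Subgroup G) → x ∈ centralizer ((S : Subgroup G) : Set G) :=
    fun S x hx y hy => hcomm S y hy x hx
  have hTC : ∀ (S : Sylow 2 G) (x : G), x ∈ (S : Subgroup G) → (S : Subgroup G) ≤ centralizer ({x} : Set G) :=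
    fun S x hx y hy => mem_centralizer_singleton_iff.2 (hcomm S y hy x hx)
  -- every involution of a Sylow subgroup is a square in it, and there are three of them
  have hΩ : ∀ S : Sylow 2 G, Nat.card (Ω S) = 4 ∧
      ∀ u ∈ (S : Subgroup G), orderOf u = 2 → ∃ y ∈ (S : Subgroup G), y ^ 2 = u := by
    intro S
    obtain ⟨u, huS, hu, -⟩ := exists_other_involution hn S 1
    obtain ⟨v, hvS, hv, hvu⟩ := exists_other_involution hn S u
    set N := normalizer ((S : Subgroup G) : Set G)
    letI act : MulAction N {x : G // x ∈ (S : Subgroup G) ∧ orderOf x = 2} :=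
      { smul := fun g x => ⟨(g : G) * x.1 * (g : G)⁻¹, (mem_normalizer_iff.1 g.2 x.1).1 x.2.1,
          (MulEquiv.orderOf_eq (MulAut.conj (g : G)) x.1).trans x.2.2⟩
        one_smul := fun x => Subtype.ext (show (1 : G) * x.1 * (1 : G)⁻¹ = x.1 by group)
        mul_smul := fun g h x => Subtype.ext
          (show ((g : G) * h) * x.1 * ((g : G) * h)⁻¹ = (g : G) * ((h : G) * x.1 * (h : G)⁻¹) * (g : G)⁻¹ by
            group) }
    have horb : orbit N (⟨u, huS, hu⟩ : {x : G // x ∈ (S : Subgroup G) ∧ orderOf x = 2}) = Set.univ :=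
      Set.eq_univ_of_forall fun x => by
        obtain ⟨n, hnN, he⟩ := exists_normalizer_conj hn S hu x.2.2 (hcen S u huS) (hcen S x.1 x.2.1)
        exact ⟨⟨n, hnN⟩, Subtype.ext he⟩
    have hk : Nat.card {x : G // x ∈ (S : Subgroup G) ∧ orderOf x = 2} ∣ 5616 := by
      have h := SmallSimple.card_orbit_mul_card_stabilizer (G := N)
        (⟨u, huS, hu⟩ : {x : G // x ∈ (S : Subgroup G) ∧ orderOf x = 2})
      rw [horb, Nat.card_congr (Equiv.Set.univ _)] at h
      exact (Dvd.intro _ h).trans (hn ▸ card_subgroup_dvd_card N)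
    have hkΩ : Nat.card {x : G // x ∈ (S : Subgroup G) ∧ orderOf x = 2} + 1 = Nat.card (Ω S) := by
      have e : {x : G // x ∈ (S : Subgroup G) ∧ orderOf x = 2} ≃ {x : Ω S // x ≠ 1} :=
        { toFun := fun x => ⟨⟨x.1, hmemΩ S x.1 x.2.1 x.2.2⟩, fun h => by
            have h' : x.1 = 1 := congrArg Subtype.val h
            have := x.2.2
            rw [h', orderOf_one] at this
            omega⟩
          invFun := fun x => ⟨x.1.1, hΩle S x.1.2, hinv S _ x.1.2 fun h => x.2 (Subtype.ext h)⟩
          left_inv := fun x => rfl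
          right_inv := fun x => rfl }
      haveI := Fintype.ofFinite (Ω S)
      rw [Nat.card_congr e, Nat.card_eq_fintype_card, Nat.card_eq_fintype_card, Fintype.card_subtype_compl,
        Fintype.card_subtype_eq]
      have : 0 < Fintype.card (Ω S) := Fintype.card_pos
      omega
    obtain ⟨j, hj, hje⟩ := (Nat.dvd_prime_pow Nat.prime_two).1
      (show Nat.card (Ω S) ∣ 2 ^ 4 by
        rw [show (2 : ℕ) ^ 4 = 16 from rfl, ← card_sylow_two hn S]; exact card_dvd_of_le (hΩle S))
    have h2 : 1 < Nat.card {x : G // x ∈ (S : Subgroup G) ∧ orderOf x = 2} := by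
      rw [Finite.one_lt_card_iff_nontrivial]
      exact ⟨⟨⟨u, huS, hu⟩, ⟨v, hvS, hv⟩, fun h => hvu (congrArg Subtype.val h).symm⟩⟩
    have h4 : Nat.card (Ω S) = 4 := by
      generalize hkdef : Nat.card {x : G // x ∈ (S : Subgroup G) ∧ orderOf x = 2} = k at hk hkΩ h2
      rw [hje] at hkΩ ⊢
      interval_cases j
      · omega
      · omega
      · rfl
      · obtain rfl : k = 7 := by omega
        norm_num at hk
      · obtain rfl : k = 15 := by omega
        norm_num at hk
    refine ⟨h4, fun x hxS hx => ?_⟩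
    obtain ⟨y, hyS, hy⟩ : ∃ y ∈ (S : Subgroup G), orderOf (y ^ 2) = 2 := by
      obtain ⟨y, hyS, hyΩ⟩ : ∃ y ∈ (S : Subgroup G), y ∉ Ω S := by
        by_contra hc
        push Not at hc
        have h := card_le_of_le (show (S : Subgroup G) ≤ Ω S from hc)
        rw [card_sylow_two hn S, h4] at h
        omega
      obtain ⟨i, hi, hie⟩ := (Nat.dvd_prime_pow Nat.prime_two).1
        (show orderOf y ∣ 2 ^ 4 by
          rw [show (2 : ℕ) ^ 4 = 16 from rfl, ← card_sylow_two hn S]; exact orderOf_dvd_natCard _ hyS)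
      obtain ⟨k, rfl⟩ : ∃ k, i = k + 2 := by
        rcases i with _ | _ | k
        · refine absurd ?_ hyΩ; rw [pow_zero, orderOf_eq_one_iff] at hie; rw [hie]; exact one_mem _
        · exact absurd (hmemΩ S y hyS hie) hyΩ
        · exact ⟨k, rfl⟩
      refine ⟨y ^ 2 ^ k, pow_mem hyS _, ?_⟩
      rw [← pow_mul, orderOf_pow, hie, Nat.gcd_eq_right ⟨2, by ring⟩,
        show 2 ^ (k + 2) = 2 * (2 ^ k * 2) by ring, Nat.mul_div_cancel _ (by positivity)]
    obtain ⟨n, hnN, he⟩ := exists_normalizer_conj hn S hy hx (hcen S _ (pow_mem hyS 2)) (hcen S x hxS)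
    refine ⟨n * y * n⁻¹, (mem_normalizer_iff.1 hnN y).1 hyS, ?_⟩
    rw [← he, pow_two, pow_two]; group
  set V := Ω T
  -- hence the centralisers of the involutions of `T` normalise `V`
  have hV : ∀ u ∈ V, u ≠ 1 → ∀ w ∈ centralizer ({u} : Set G), ∀ x ∈ V, w * x * w⁻¹ ∈ V := by
    intro u hu hu1 w hw x hx
    have hsub : ((w • T : Sylow 2 G) : Subgroup G) ≤ centralizer ({u} : Set G) := by
      intro y hy
      rw [Sylow.coe_subgroup_smul, Subgroup.mem_pointwise_smul_iff_inv_smul_mem] at hy
      have hy' := hTC T u (hΩle T hu) hy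
      rw [MulAut.smul_def, ← map_inv, MulAut.conj_apply, inv_inv] at hy'
      have := mul_mem (mul_mem hw hy') (inv_mem hw)
      simpa [mul_assoc] using this
    have hsq : ∀ y ∈ V, y ∈ ((w • T : Sylow 2 G) : Subgroup G) := by
      intro y hy
      by_cases hy1 : y = 1
      · rw [hy1]; exact one_mem _
      obtain ⟨z, hz, rfl⟩ := (hΩ T).2 y (hΩle T hy) (hinv T y hy hy1)
      exact (sq_mem_of_le (card_centralizer hn (hinv T u hu hu1)) (card_sylow_two hn T)
        (card_sylow_two hn (w • T)) (hTC T u (hΩle T hu)) hsub).2 z hz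
    have heq : V = Ω (w • T) := eq_of_le_of_card_ge (fun y hy => ⟨hsq y hy, hy.2⟩)
      (by rw [(hΩ (w • T)).1, (hΩ T).1])
    rw [heq]
    refine ⟨?_, ?_⟩
    · rw [Sylow.coe_subgroup_smul, Subgroup.mem_pointwise_smul_iff_inv_smul_mem, MulAut.smul_def, ← map_inv,
        MulAut.conj_apply]
      simpa [mul_assoc] using hΩle T hx
    · calc w * x * w⁻¹ * (w * x * w⁻¹) = w * (x * x) * w⁻¹ := by group
        _ = 1 := by rw [hx.2]; group
  set M := normalizer (V : Set G)
  have hCM : ∀ u ∈ V, u ≠ 1 → centralizer ({u} : Set G) ≤ M := fun u hu hu1 w hw => by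
    rw [mem_normalizer_iff]
    intro x
    refine ⟨hV u hu hu1 w hw x, fun h => ?_⟩
    have := hV u hu hu1 w⁻¹ (inv_mem hw) _ h
    simpa [mul_assoc] using this
  obtain ⟨u, huT, hu, -⟩ := exists_other_involution hn T 1
  have huV : u ∈ V := hmemΩ T u huT hu
  have hu1 : u ≠ 1 := fun h => by rw [h, orderOf_one] at hu; omega
  have hTM : (T : Subgroup G) ≤ M := (hTC T u huT).trans (hCM u huV hu1)
  have hMV : ∀ y ∈ M, orderOf y = 2 → y ∈ V := by
    intro y hy hy2
    have hP : IsPGroup 2 (zpowers (⟨y, hy⟩ : M)) := IsPGroup.of_card (n := 1) (by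
      rw [Nat.card_zpowers, ← Subgroup.orderOf_coe, hy2, pow_one])
    obtain ⟨S, hS⟩ := hP.exists_le_sylow
    obtain ⟨m, hm⟩ := MulAction.exists_smul_eq M (T.subtype hTM) S
    have hy' := hS (mem_zpowers _)
    rw [← hm, Sylow.coe_subgroup_smul, Subgroup.mem_pointwise_smul_iff_inv_smul_mem, MulAut.smul_def,
      ← map_inv, MulAut.conj_apply, Sylow.coe_subtype, mem_subgroupOf] at hy'
    have hm' : (m : G)⁻¹ * y * m ∈ V := hmemΩ T _ (by simpa using hy')
      ((show ((m : G)⁻¹ * y * m) = MulAut.conj (m : G)⁻¹ y by simp) ▸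
        (MulEquiv.orderOf_eq (MulAut.conj (m : G)⁻¹) y).trans hy2)
    have := (mem_normalizer_iff.1 m.2 _).1 hm'
    simpa [mul_assoc] using this
  have hMtop : M ≠ ⊤ := fun h => by
    haveI : V.Normal := normalizer_eq_top_iff.1 h
    rcases (inferInstance : V.Normal).eq_bot_or_eq_top with h' | h'
    · exact hu1 (mem_bot.1 (h' ▸ huV))
    · have := (hΩ T).1
      rw [show Ω T = ⊤ from h', card_top, hn] at this
      omega
  have hdvd := card_dvd_pred (X := G ⧸ M) (T : Subgroup G) T.isPGroup' ((1 : G) : G ⧸ M)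
    (fun g hg => QuotientGroup.eq.2 (by simpa using hTM hg)) (fun x hx hx2 q hq => by
      obtain ⟨g, rfl⟩ := QuotientGroup.mk_surjective q
      have hxV := hmemΩ T x hx hx2
      have hgx : g⁻¹ * x * g ∈ M := by
        have := QuotientGroup.eq.1 hq.symm
        simpa [mul_assoc] using this
      have hgx2 : orderOf (g⁻¹ * x * g) = 2 := by
        rw [← hx2]; exact (by simpa using MulEquiv.orderOf_eq (MulAut.conj g⁻¹) x)
      have hgxV := hMV _ hgx hgx2
      have hgx1 : g⁻¹ * x * g ≠ 1 := fun h => by rw [h, orderOf_one] at hgx2; omega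
      have hle : ∀ z ∈ V, g⁻¹ * z * g ∈ V := by
        intro z hz
        by_cases hz1 : z = 1
        · simp [hz1]
        refine hMV _ (hCM _ hgxV hgx1 (mem_centralizer_singleton_iff.2 ?_))
          ((by simpa using MulEquiv.orderOf_eq (MulAut.conj g⁻¹) z : orderOf (g⁻¹ * z * g) = orderOf z).trans
            (hinv T z hz hz1))
        calc g⁻¹ * z * g * (g⁻¹ * x * g) = g⁻¹ * (z * x) * g := by group
          _ = g⁻¹ * (x * z) * g := by rw [hcomm T z (hΩle T hz) x hx]
          _ = g⁻¹ * x * g * (g⁻¹ * z * g) := by group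
      have hgM : g⁻¹ ∈ M := (mem_normalizer_fintype (fun z hz => by simpa using hle z hz))
      exact QuotientGroup.eq.2 (by simpa using hgM))
  have hMcard := card_mul_index M
  rw [hn] at hMcard
  have h48 : 48 ∣ Nat.card M := card_centralizer hn hu ▸ card_dvd_of_le (hCM u huV hu1)
  have hidx : M.index ∣ 117 := by
    obtain ⟨c, hc⟩ := h48
    rw [hc] at hMcard
    exact ⟨c, by nlinarith⟩
  have hne : M.index ≠ 1 := fun h => hMtop (index_eq_one.1 h)
  rw [← index_eq_card, card_sylow_two hn T] at hdvd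
  have hpos : M.index ≠ 0 := FiniteIndex.index_ne_zero
  have hle := Nat.le_of_dvd (by norm_num) hidx
  generalize M.index = i at *
  interval_cases i <;> omega

end Cfsg.Agent.Order5616
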